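import Groth.Agent.Stk19b.Boot.Atlas

/-! A sheaf with a smooth surjective cover by an algebraic space is an algebraic space. -/

set_option autoImplicit false
set_option linter.style.haveILetI false
set_option backward.isDefEq.respectTransparency false
set_option backward.isDefEq.respectTransparency.types false

universe u

open CategoryTheory CategoryTheory.Limits AlgebraicGeometry Opposite

noncomputable section

namespace Groth.Agent.Stk19b.Boot

variable {S : Scheme.{u}}

theorem smoothCover_le_fppf :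
    (AlgSp.IsSurjectiveMor ⊓ AlgSp.LocP @Smooth : MorphismProperty (AlgSp.Sp S)) ≤
      AlgSp.IsSurjectiveMor ⊓ AlgSp.LocP @Flat ⊓ AlgSp.LocP @LocallyOfFinitePresentation :=
  fun _ _ _ h => ⟨⟨h.1, AlgSpLib.locP_mono (fun _ _ g (_ : Smooth g) => (inferInstance : Flat g)) h.2⟩,
    AlgSpLib.locP_mono (fun _ _ g (_ : Smooth g) => (inferInstance : LocallyOfFinitePresentation g)) h.2⟩

theorem repWith_of_repBySpWith {U : Over S} {F : AlgSp.Sp S} {a : (AlgSp.yon S).obj U ⟶ F}
    (hr : AlgSp.Representable a)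
    (h : AlgSp.RepBySpWith (AlgSp.IsSurjectiveMor ⊓ AlgSp.LocP @Smooth) a.hom) :
    AlgSp.RepWith @Smooth a ∧ AlgSp.RepWith @Surjective a := by
  have key : ∀ (T : Over S) (ξ : (AlgSp.yon S).obj T ⟶ F),
      Smooth (hr.snd ξ).left ∧ Surjective (hr.snd ξ).left := fun T ξ => by
    obtain ⟨-, h₁, h₂⟩ := (AlgSp.repBySpWith_hom_iff _ a).1 h ξ _ _ (hr.isPullback ξ)
    exact ⟨AlgSp.locP_yon_map h₂, (AlgSpLib.surjective_map_yon_map_iff _).1 h₁⟩
  exact ⟨MorphismProperty.relative.of_exists fun T ξ => ⟨_, _, _, hr.isPullback ξ, (key T ξ).1⟩,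
    MorphismProperty.relative.of_exists fun T ξ => ⟨_, _, _, hr.isPullback ξ, (key T ξ).2⟩⟩

theorem isAlgSpace_of_smooth_cover_yon {U : Over S} {F : AlgSp.Sp S} (a : (AlgSp.yon S).obj U ⟶ F)
    (h : AlgSp.RepBySpWith (AlgSp.IsSurjectiveMor ⊓ AlgSp.LocP @Smooth) a.hom) : AlgSp.IsAlgSpace F := by
  have hd := AlgSpLib.representable_diag_of_fppf_cover (AlgSp.IsAlgSpace.yon_obj U) a
    (fun V ξ F' fst snd sq => by
      obtain ⟨hs, hA, hQ⟩ := h ξ fst snd sq
      exact ⟨hs, hA, smoothCover_le_fppf _ hQ⟩)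
  have hr : AlgSp.Representable a := Functor.relativelyRepresentable.of_diag hd a
  obtain ⟨hS, hJ⟩ := repWith_of_repBySpWith hr h
  have sq₀ := hr.isPullback a
  obtain ⟨p, hp⟩ := (AlgSp.yon S).map_surjective (hr.fst a)
  rw [← hp] at sq₀
  let q := hr.snd a
  have : Smooth q.left := hS.property_snd a
  have : Smooth p.left := hS.property _ _ _ sq₀.flip
  obtain ⟨Z, π, hE, hSu⟩ := exists_etale_multisection a p q sq₀
  let f := pullback.fst q π ≫ p
  let e := ((IsPullback.of_hasPullback q π).map (Over.forget S)).isoPullback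
  have ef : f.left = e.hom ≫ pullback.fst q.left π.left ≫ p.left := by
    rw [← Category.assoc]
    exact congrArg (· ≫ p.left) ((IsPullback.of_hasPullback q π).map (Over.forget S)).isoPullback_hom_fst.symm
  have hfE : Etale f.left := ef ▸ (MorphismProperty.cancel_left_of_respectsIso @Etale e.hom _).2 hE
  have hfS : Surjective f.left := ef ▸ (MorphismProperty.cancel_left_of_respectsIso @Surjective e.hom _).2 hSu
  let b := (AlgSp.yon S).map π ≫ a
  have sqb : IsPullback ((AlgSp.yon S).map (pullback.snd q π)) ((AlgSp.yon S).map f) b a := by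
    rw [Functor.map_comp]
    exact (((IsPullback.of_hasPullback q π).map (AlgSp.yon S)).paste_horiz sq₀).flip
  have hb : AlgSp.Representable b := Functor.relativelyRepresentable.of_diag hd b
  have key : ∀ (T : Over S) (ξ : (AlgSp.yon S).obj T ⟶ F),
      Etale (hb.snd ξ).left ∧ Surjective (hb.snd ξ).left := by
    intro T ξ
    let c := hr.snd ξ
    have : Smooth c.left := hS.property_snd ξ
    have : Surjective c.left := hJ.property_snd ξ
    let d := hb.snd ξ
    have sq₂ := (IsPullback.of_hasPullback ((AlgSp.yon S).map d) ((AlgSp.yon S).map c)).paste_horiz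
      (hb.isPullback ξ)
    rw [← hr.w ξ] at sq₂
    have sq₃ : IsPullback (sqb.lift _ (pullback.snd _ _ ≫ hr.fst ξ) (by rw [sq₂.w, Category.assoc]))
        (pullback.snd ((AlgSp.yon S).map d) ((AlgSp.yon S).map c)) ((AlgSp.yon S).map f) (hr.fst ξ) :=
      IsPullback.of_right (h₁₂ := (AlgSp.yon S).map (pullback.snd q π)) (by rw [sqb.lift_fst]; exact sq₂)
        (sqb.lift_snd _ _ _) sqb
    have hP := AlgSpLib.isAlgSpace_of_isPullback (AlgSp.IsAlgSpace.yon_obj T).diag (AlgSp.IsAlgSpace.yon_obj _)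
      (AlgSp.IsAlgSpace.yon_obj _) (IsPullback.of_hasPullback ((AlgSp.yon S).map d) ((AlgSp.yon S).map c))
    have hEt := AlgSpLib.RepWith.baseChange sq₃ ((AlgSp.repWith_yon_map_iff @Etale f).2 hfE)
    have hSj := AlgSpLib.RepWith.baseChange sq₃ ((AlgSp.repWith_yon_map_iff @Surjective f).2 hfS)
    refine ⟨AlgSp.locP_yon_map (Stk19.schDescent_locP AlgSpLib.etLocal_etale
      (V := ⟨_, AlgSp.IsAlgSpace.yon_obj _⟩) ((AlgSp.yon S).map d) c inferInstance inferInstance inferInstance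
      (AlgSpLib.locP_of_repWith AlgSpLib.etLocal_etale hP hEt)), (AlgSpLib.surjective_map_yon_map_iff d).1 ?_⟩
    intro t
    obtain ⟨t', rfl⟩ := (AlgSpLib.surjective_map_yon_map_iff c).2 ‹Surjective c.left› t
    obtain ⟨z, rfl⟩ := AlgSpLib.surjective_map_of_repWith hSj t'
    exact ⟨AlgSp.Points.map (pullback.fst _ _) z, by
      rw [← AlgSp.Points.map_comp, ← AlgSp.Points.map_comp, pullback.condition]⟩
  exact ⟨hd, Z, b, MorphismProperty.relative.of_exists fun T ξ => ⟨_, _, _, hb.isPullback ξ, (key T ξ).1⟩,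
    MorphismProperty.relative.of_exists fun T ξ => ⟨_, _, _, hb.isPullback ξ, (key T ξ).2⟩⟩

/-- A sheaf with a smooth surjective cover by an algebraic space is an algebraic space. -/
theorem isAlgSpace_of_smooth_cover {X F : AlgSp.Sp S} (hX : AlgSp.IsAlgSpace X) (a : X ⟶ F)
    (h : AlgSp.RepBySpWith (AlgSp.IsSurjectiveMor ⊓ AlgSp.LocP @Smooth) a.hom) : AlgSp.IsAlgSpace F := by
  obtain ⟨U, e, hae, has⟩ := hX.atlas
  refine isAlgSpace_of_smooth_cover_yon (e ≫ a) ((AlgSp.repBySpWith_hom_iff _ _).2 fun T ξ F' fst snd sq => ?_)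
  have sqP := IsPullback.of_hasPullback a ξ
  obtain ⟨hP, h₁, h₂⟩ := (AlgSp.repBySpWith_hom_iff _ a).1 h ξ _ _ sqP
  have sqy : IsPullback fst (sqP.lift (fst ≫ e) snd (by rw [Category.assoc, sq.w])) e (pullback.fst a ξ) :=
    IsPullback.of_bot (by rw [sqP.lift_snd]; exact sq) (sqP.lift_fst _ _ _).symm sqP
  have hF' := AlgSpLib.isAlgSpace_of_isPullback hX.diag (AlgSp.IsAlgSpace.yon_obj U) hP sqy
  refine ⟨hF', ?_, ?_⟩
  · intro t
    obtain ⟨z, rfl⟩ := h₁ t
    obtain ⟨w, rfl⟩ := AlgSpLib.surjective_map_of_repWith (AlgSpLib.RepWith.baseChange sqy has) z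
    exact ⟨w, by rw [← AlgSp.Points.map_comp, sqP.lift_snd]⟩
  · rw [← sqP.lift_snd (fst ≫ e) snd (by rw [Category.assoc, sq.w])]
    exact AlgSpLib.locP_comp AlgSpLib.etLocal_smooth hF' hP (AlgSp.IsAlgSpace.yon_obj T)
      (AlgSpLib.locP_of_repWith AlgSpLib.etLocal_smooth hF'
        (AlgSpLib.RepWith.mono (fun _ _ g (_ : Etale g) => (inferInstance : Smooth g))
          (AlgSpLib.RepWith.baseChange sqy hae))) h₂

end Groth.Agent.Stk19b.Boot
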