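import Groth.Agent.Stk19b.Boot.Stack
import Groth.Agent.Stk19.AlgSt.Mono
import Groth.Agent.Stk19.AlgSt.Local
import Groth.Agent.Stk19.AlgSt.DescentSp
import Groth.Agent.Stk19.Glue
import Groth.Agent.Stk19.Inertia
import Groth.Agent.Stk19.Prod
import Groth.Agent.AlgSpLib.YonCoprod

/-! Representability criteria for maps of algebraic stacks. -/

set_option autoImplicit false
set_option linter.style.haveILetI false
set_option backward.isDefEq.respectTransparency false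
set_option backward.isDefEq.respectTransparency.types false

universe v₃ u₃ v₂ u₂ v u

open CategoryTheory CategoryTheory.Limits AlgebraicGeometry Opposite FibCat Groth.Agent.Stk19 Groth.Agent.Desc19

namespace Groth.Agent.Stk19b

section cat

variable {C : Type u} [Category.{v} C] {𝒳 : BasedCategory.{v₂, u₂} C} {𝒴 : BasedCategory.{v₃, u₃} C}
  (f : 𝒳 ⥤ᵇ 𝒴)

theorem kernel_of_faithful [f.toFunctor.Faithful] (a : 𝒳.obj) (φ : a ⟶ a)
    (h : f.map φ = 𝟙 (f.obj a)) : φ = 𝟙 a :=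
  f.toFunctor.map_injective (h.trans (f.toFunctor.map_id a).symm)

theorem faithful_of_kernel (h𝒳 : IsFibGrpd 𝒳.p) (h𝒴 : IsFibGrpd 𝒴.p)
    (h : ∀ (a : 𝒳.obj) (φ : a ⟶ a), 𝒳.p.map φ = 𝟙 (𝒳.p.obj a) → f.map φ = 𝟙 (f.obj a) → φ = 𝟙 a) :
    f.toFunctor.Faithful := by
  refine faithful_of_fiberFunctor f h𝒳 h𝒴 fun U => ⟨fun {a b} k l hkl => ?_⟩
  obtain ⟨a, rfl⟩ := a
  have := k.2
  have := l.2
  have := fibGrpd_isIso_vert h𝒳 (R := 𝒳.p.obj a) l.1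
  have e : f.map k.1 = f.map l.1 := congrArg Subtype.val hkl
  suffices e' : k.1 ≫ inv l.1 = 𝟙 a from Subtype.ext (by simpa using congrArg (· ≫ l.1) e')
  refine h a _ ?_ ?_
  · rw [𝒳.p.map_comp, Functor.map_inv]
    simp [map_eq_of_vert 𝒳.p (R := 𝒳.p.obj a) k.1, map_eq_of_vert 𝒳.p (R := 𝒳.p.obj a) l.1]
  · rw [f.toFunctor.map_comp, Functor.map_inv]
    simp [e]

theorem faithful_diag : (FibCat.diag f).toFunctor.Faithful :=
  ⟨fun {_ _} _ _ h => congrArg (fun m => m.hom.fst) h⟩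

theorem full_diag_iff (h𝒳 : IsFibGrpd 𝒳.p) (h𝒴 : IsFibGrpd 𝒴.p) :
    (FibCat.diag f).toFunctor.Full ↔ f.toFunctor.Faithful := by
  constructor
  · intro _
    refine faithful_of_kernel f h𝒳 h𝒴 fun a φ hp hf => ?_
    obtain ⟨k, hk⟩ := (FibCat.diag f).toFunctor.map_surjective
      (fpHom (a := (FibCat.diag f).obj a) (b := (FibCat.diag f).obj a) φ (𝟙 a) (by
        show f.map φ ≫ 𝟙 _ = 𝟙 _ ≫ f.map (𝟙 a)
        rw [hf, f.toFunctor.map_id]))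
    exact (congrArg (fun m => m.hom.fst) hk).symm.trans (congrArg (fun m => m.hom.snd) hk)
  · intro _
    refine ⟨fun {a b} k => ⟨k.hom.fst, fp_hom_ext rfl (f.toFunctor.map_injective ?_)⟩⟩
    have w : f.map k.hom.fst ≫ 𝟙 _ = 𝟙 _ ≫ f.map k.hom.snd := k.hom.w
    rw [Category.comp_id, Category.id_comp] at w
    exact w

theorem diag_diag_equiv_iff (h𝒳 : IsFibGrpd 𝒳.p) (h𝒴 : IsFibGrpd 𝒴.p) :
    IsEquivOver (FibCat.diag (FibCat.diag f)) ↔ f.toFunctor.Faithful := by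
  rw [← diag_equiv_iff (FibCat.diag f) h𝒳 (fibGrpd_fp h𝒳 h𝒳 h𝒴 f f)]
  exact ⟨fun h => (full_diag_iff f h𝒳 h𝒴).1 h.1, fun h => ⟨(full_diag_iff f h𝒳 h𝒴).2 h, faithful_diag f⟩⟩

theorem inertia_equiv_iff (h𝒳 : IsFibGrpd 𝒳.p) (h𝒴 : IsFibGrpd 𝒴.p) :
    IsEquivOver (inertiaToBase f) ↔ f.toFunctor.Faithful := by
  constructor
  · intro h
    obtain ⟨hfull, -, -⟩ := EqvData.of_isEquivOver h
    refine faithful_of_kernel f h𝒳 h𝒴 fun a φ hp hf => ?_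
    have : IsIso (𝒳.p.map φ) := by rw [hp]; infer_instance
    have := fibGrpd_isIso h𝒳 φ
    let s : (inertia f).obj := ⟨a, asIso φ, hf⟩
    let t : (inertia f).obj := ⟨a, Iso.refl a, f.toFunctor.map_id a⟩
    obtain ⟨ψ, hψ⟩ := (inertiaToBase f).toFunctor.map_surjective (X := s) (Y := t) (𝟙 a)
    have w : φ ≫ ψ.hom = ψ.hom ≫ 𝟙 a := ψ.comm
    rw [show ψ.hom = 𝟙 a from hψ] at w
    exact (Category.comp_id φ).symm.trans (w.trans (Category.comp_id _))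
  · intro _
    have triv : ∀ t : (inertia f).obj, t.aut.hom = 𝟙 t.pt := fun t => kernel_of_faithful f _ _ t.map_aut
    refine EqvData.isEquivOver ⟨⟨fun {s t} k => ⟨⟨k, ?_⟩, rfl⟩⟩, ⟨fun {s t} k k' h => InertiaObj.Hom.ext h⟩,
      fun z => ⟨⟨z, Iso.refl z, f.toFunctor.map_id z⟩, Iso.refl z, IsHomLift.id rfl⟩⟩
    show s.aut.hom ≫ k = k ≫ t.aut.hom
    rw [triv, triv]
    exact (Category.id_comp k).trans (Category.comp_id k).symm

end cat

variable {S : Scheme.{u}} {𝒳 𝒴 𝒲 : AlgSt.Cat S}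

theorem full_ofSpMap {F G : AlgSp.Sp S} (a : F ⟶ G) [Mono a] :
    (AlgSt.ofSpMap a).toFunctor.Full := by
  refine ⟨fun {s t} k => ⟨⟨k.hom, ?_⟩, Stk.EltObj.hom_ext rfl⟩⟩
  have : Mono ((sheafToPresheaf (AlgSp.J S) _).map a) := inferInstance
  have : Mono a.hom := this
  have hm := (NatTrans.mono_iff_mono_app a.hom).1 this (op s.base)
  refine (mono_iff_injective _).1 hm ?_
  rw [NatTrans.naturality_apply]
  exact k.map_sec

/-- A full functor from an algebraic space to a scheme is a monomorphism of sheaves. -/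
theorem mono_spMapOfOver {F : AlgSp.Sp S} {U : Over S} (Φ : AlgSt.ofSp F ⥤ᵇ overCat U) [Φ.toFunctor.Full] :
    Mono (AlgSt.spMapOfOver Φ) := by
  have inj : ∀ T : (Over S)ᵒᵖ, Function.Injective ((AlgSt.spMapOfOver Φ).hom.app T) := by
    intro T x y h
    let s : (AlgSt.ofSp F).obj := ⟨T.unop, x⟩
    let t : (AlgSt.ofSp F).obj := ⟨T.unop, y⟩
    have h' : AlgSt.secHom Φ s = AlgSt.secHom Φ t := congrArg ULift.down h
    let k : Φ.obj s ⟶ Φ.obj t := Over.homMk (eqToHom ((Φ.w_obj s).trans (Φ.w_obj t).symm)) (by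
      show eqToHom _ ≫ (Φ.obj t).hom = (Φ.obj s).hom
      rw [← cancel_epi (eqToHom (Φ.w_obj s).symm)]
      exact ((Category.assoc _ _ _).symm.trans (congrArg (· ≫ (Φ.obj t).hom) (eqToHom_trans _ _))).trans h'.symm)
    obtain ⟨ψ, hψ⟩ := Φ.toFunctor.map_surjective k
    have e : ψ.hom = 𝟙 T.unop := by
      have h₁ : (overCat U).p.map (Φ.map ψ) = eqToHom _ ≫ ψ.hom ≫ eqToHom _ := based_map Φ ψ
      rw [hψ] at h₁
      have h₂ : eqToHom ((Φ.w_obj s).trans (Φ.w_obj t).symm) =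
          eqToHom (Φ.w_obj s) ≫ ψ.hom ≫ eqToHom (Φ.w_obj t).symm := h₁
      rw [← cancel_epi (eqToHom (Φ.w_obj s)), ← cancel_mono (eqToHom (Φ.w_obj t).symm), Category.assoc, ← h₂]
      erw [Category.comp_id]
      rw [eqToHom_trans]
    have := ψ.map_sec
    rw [e, op_id, F.obj.map_id] at this
    exact this.symm
  refine ⟨fun {G} g h e => ?_⟩
  ext T x
  exact inj T (congrArg (fun m => m.hom.app T x) e)

theorem mono_of_full_ofSpMap {F G : AlgSp.Sp S} (a : F ⟶ G) [(AlgSt.ofSpMap a).toFunctor.Full] : Mono a := by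
  have inj : ∀ T : (Over S)ᵒᵖ, Function.Injective (a.hom.app T) := by
    intro T x y h
    obtain ⟨ψ, hψ⟩ := (AlgSt.ofSpMap a).toFunctor.map_surjective
      (X := (⟨T.unop, x⟩ : (AlgSt.ofSp F).obj)) (Y := ⟨T.unop, y⟩) ⟨𝟙 _, by
        show G.obj.map (𝟙 _).op (a.hom.app _ y) = a.hom.app _ x
        rw [op_id, G.obj.map_id]
        exact h.symm⟩
    have := ψ.map_sec
    rw [show ψ.hom = 𝟙 T.unop from congrArg Stk.EltObj.Hom.hom hψ, op_id, F.obj.map_id] at this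
    exact this.symm
  refine ⟨fun {H} g h e => ?_⟩
  ext T x
  exact inj T (congrArg (fun m => m.hom.app T x) e)

/-- A fully faithful map of algebraic stacks is a monomorphism. -/
theorem isMono_of_ff (h𝒳 : AlgSt.IsAlgStack Scheme.fppfPrecoverage 𝒳)
    (h𝒴 : AlgSt.IsAlgStack Scheme.fppfPrecoverage 𝒴) (f : 𝒳 ⥤ᵇ 𝒴) [f.toFunctor.Full] [f.toFunctor.Faithful] :
    AlgSt.IsMono f := fun U y => by
  obtain ⟨F, e, he⟩ := repByAlgSp1_of_faithful h𝒳 h𝒴 f U y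
  obtain ⟨_, _, -⟩ := EqvData.of_isEquivOver he
  have : (fpFst y f).toFunctor.Full := ⟨fun {a b} k => by
    refine ⟨fpHom k (f.toFunctor.preimage (a.obj.iso.inv ≫ y.map k ≫ b.obj.iso.hom)) ?_, rfl⟩
    rw [f.toFunctor.map_preimage, Iso.hom_inv_id_assoc]⟩
  have : (BasedFunctor.comp e (fpFst y f)).toFunctor.Full :=
    inferInstanceAs (e.toFunctor ⋙ (fpFst y f).toFunctor).Full
  exact ⟨F, e, he, mono_spMapOfOver _⟩

theorem ff_of_isMono (h𝒳 : IsFibGrpd 𝒳.p) (h𝒴 : IsFibGrpd 𝒴.p) {f : 𝒳 ⥤ᵇ 𝒴} (h : AlgSt.IsMono f) :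
    f.toFunctor.Full ∧ f.toFunctor.Faithful := fullyFaithful_of_mono h𝒳 h𝒴 h

theorem locally_lift_of_cover {w : 𝒲 ⥤ᵇ 𝒴} (h𝒴 : IsFibGrpd 𝒴.p)
    (h₁ : AlgSt.RepByAlgSpWith (AlgSp.LocP @Flat) w)
    (h₂ : AlgSt.RepByAlgSpWith (AlgSp.LocP @LocallyOfFinitePresentation) w)
    (h₃ : AlgSt.RepByAlgSpWith AlgSp.IsSurjectiveMor w) (y : 𝒴.obj) :
    ∃ R ∈ AlgSp.J S (𝒴.p.obj y), ∀ ⦃V : Over S⦄ (f : V ⟶ 𝒴.p.obj y), R f →
      ∃ (x : 𝒲.obj) (φ : w.obj x ⟶ y), 𝒴.p.IsHomLift f φ := by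
  obtain ⟨x, e, he⟩ := exists_classifying h𝒴 y rfl
  obtain ⟨W, c, hc₁, hc₂, hc₃, z, ⟨i⟩⟩ := exists_lift_of_cover h₁ h₂ h₃ _ x
  refine ⟨_, AlgSpLib.ofArrows_mem_J (Z := 𝒴.p.obj y) (fun _ : PUnit.{u + 1} => c)
    (fun t => ⟨⟨⟩, hc₃.surj t⟩), fun V f hf => ?_⟩
  obtain ⟨_, g, _, hi, rfl⟩ := hf
  obtain ⟨⟨⟩⟩ := hi
  let o : (overCat W).obj := Over.mk g
  refine ⟨z.obj o, i.hom.toNatTrans.app o ≫ x.map (toId (Over.mk (g ≫ c))) ≫ e.hom, ?_⟩
  refine IsHomLift.of_fac' 𝒴.p _ _ ((w.w_obj _).trans (z.w_obj o)) rfl ?_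
  rw [𝒴.p.map_comp, 𝒴.p.map_comp, map_eq_of_vert 𝒴.p (R := 𝒴.p.obj y) e.hom, based_map x]
  have := based_vert i o
  rw [map_eq_of_vert 𝒴.p (R := (overCat W).p.obj o) (i.hom.toNatTrans.app o)]
  simp


variable (h𝒳 : AlgSt.IsAlgStack Scheme.fppfPrecoverage 𝒳) (h𝒴 : AlgSt.IsAlgStack Scheme.fppfPrecoverage 𝒴)
  (f : 𝒳 ⥤ᵇ 𝒴) {W : AlgSp.Space S} {w : AlgSt.ofSp W.obj ⥤ᵇ 𝒴}
  (hw₁ : AlgSt.RepByAlgSpWith (AlgSp.LocP @Flat) w)
  (hw₂ : AlgSt.RepByAlgSpWith (AlgSp.LocP @LocallyOfFinitePresentation) w)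
  (hw₃ : AlgSt.RepByAlgSpWith AlgSp.IsSurjectiveMor w)

include h𝒳 h𝒴 hw₁ hw₂ hw₃

theorem repByAlgSp1_of_cover (h : AlgSt.RepByAlgSp (fp w f)) : AlgSt.RepByAlgSp1 f := by
  have : f.toFunctor.Faithful := faithful_of_faithful_fpFst (AlgSp.J S) h𝒴.isStack.1
    (isStack_isPrestack h𝒳.isStack) w f (locally_lift_of_cover h𝒴.isStack.1 hw₁ hw₂ hw₃)
    (faithful_of_setoid (fpFst w f) (setoid_of_repByAlgSp h) (isStack_ofSp W.obj).1)
  exact repByAlgSp1_of_faithful h𝒳 h𝒴 f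

omit h𝒳 h𝒴 hw₁ hw₂ hw₃ in
theorem epi_yon_of_cover {T Z : Over S} (c : T ⟶ Z) (hf : Flat c.left)
    (hl : LocallyOfFinitePresentation c.left) (hs : Surjective c.left) : Epi ((AlgSp.yon S).map c) := by
  refine ⟨fun {F} g h e => ?_⟩
  apply (GrothendieckTopology.uliftYonedaEquiv.{u + 1} (AlgSp.J S)).injective
  refine (((isSheaf_iff_isSheaf_of_type _ _).1 F.property) _
    (AlgSpLib.ofArrows_mem_J (Z := Z) (fun _ : PUnit.{u + 1} => c) (fun t => ⟨⟨⟩, hs.surj t⟩))).isSeparatedFor.ext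
    fun V k hk => ?_
  obtain ⟨_, d, _, hi, rfl⟩ := hk
  obtain ⟨⟨⟩⟩ := hi
  rw [op_comp, F.obj.map_comp]
  refine congrArg (F.obj.map d.op) ?_
  exact ((AlgSp.J S).uliftYonedaEquiv_naturality g c).trans
    ((congrArg _ e).trans ((AlgSp.J S).uliftYonedaEquiv_naturality h c).symm)

omit h𝒳 h𝒴 hw₁ hw₂ hw₃ in
theorem schDescent_mono : SchDescent (MorphismProperty.monomorphisms (AlgSp.Sp S)) := by
  intro V T W a c hf hl hs h
  have : Mono (pullback.snd a ((AlgSp.yon S).map c)) := h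
  refine ⟨fun {P} g₁ g₂ e => ?_⟩
  suffices key : ∀ (Z : Over S) (p : (AlgSp.yon S).obj Z ⟶ P), p ≫ g₁ = p ≫ g₂ by
    ext Z x
    have := congrArg (GrothendieckTopology.uliftYonedaEquiv.{u + 1} (AlgSp.J S))
      (key Z.unop ((GrothendieckTopology.uliftYonedaEquiv.{u + 1} (AlgSp.J S)).symm x))
    rw [GrothendieckTopology.uliftYonedaEquiv_comp, GrothendieckTopology.uliftYonedaEquiv_comp,
      Equiv.apply_symm_apply] at this
    exact this
  intro Z p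
  obtain ⟨k, hk⟩ := (AlgSp.yon S).map_surjective (p ≫ g₁ ≫ a)
  have sq := (IsPullback.of_hasPullback k c).map (AlgSp.yon S)
  obtain ⟨i₁, i₂, i₃⟩ := fls_pullback_fst k c hf hl hs
  have := epi_yon_of_cover (pullback.fst k c) i₁ i₂ i₃
  rw [← cancel_epi ((AlgSp.yon S).map (pullback.fst k c))]
  have h1 : ((AlgSp.yon S).map (pullback.fst k c) ≫ p ≫ g₁) ≫ a =
      (AlgSp.yon S).map (pullback.snd k c) ≫ (AlgSp.yon S).map c := by
    rw [Category.assoc, Category.assoc, ← hk, sq.w]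
  have h2 : ((AlgSp.yon S).map (pullback.fst k c) ≫ p ≫ g₂) ≫ a =
      (AlgSp.yon S).map (pullback.snd k c) ≫ (AlgSp.yon S).map c := by
    rw [Category.assoc, Category.assoc, ← e, ← hk, sq.w]
  have kk : pullback.lift _ _ h1 = pullback.lift _ _ h2 := by
    rw [← cancel_mono (pullback.snd a ((AlgSp.yon S).map c))]
    simp
  simpa using congrArg (fun l => l ≫ pullback.fst a ((AlgSp.yon S).map c)) kk

theorem isMono_iff_of_cover :
    AlgSt.IsMono f ↔ ∃ (V : AlgSp.Space S) (a : V ⟶ W) (e : AlgSt.ofSp V.obj ⥤ᵇ fp w f),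
      IsEquivOver e ∧ Nonempty (BasedFunctor.comp e (fpFst w f) ≅ AlgSt.ofSpMap a.hom) ∧ Mono a.hom := by
  have hW := repByAlgSp_ofSp W
  have hWs := (isStack_ofSp W.obj).1
  have hfib : IsFibGrpd (fp w f).p := fibGrpd_fp hWs h𝒳.isStack.1 h𝒴.isStack.1 w f
  have hWA := (isDM_of_repByAlgSp hW).1
  have hfpA := isAlgStack_fp h𝒴.isStack h𝒴.diag hWA h𝒳 w f
  constructor
  · intro hf
    have : f.toFunctor.Faithful := (ff_of_isMono h𝒳.isStack.1 h𝒴.isStack.1 hf).2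
    obtain ⟨V, e, he⟩ := repByAlgSp_of_setoid hfpA
      (setoid_fp _ _ (setoid_of_repByAlgSp hW) h𝒳.isStack.1 h𝒴.isStack.1)
    obtain ⟨i⟩ := spHom_iso (BasedFunctor.comp e (fpFst w f))
    refine ⟨V, ObjectProperty.homMk (spHom (BasedFunctor.comp e (fpFst w f))), e, he, ⟨i⟩, ?_⟩
    obtain ⟨_, _, -⟩ := EqvData.of_isEquivOver he
    have := (ff_of_isMono (f := fpFst w f) hfib hWs (repByAlgSpWith_fpFst w hf)).1
    have : (BasedFunctor.comp e (fpFst w f)).toFunctor.Full :=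
      inferInstanceAs (e.toFunctor ⋙ (fpFst w f).toFunctor).Full
    have := Functor.Full.of_iso (F := (BasedFunctor.comp e (fpFst w f)).toFunctor)
      (F' := (AlgSt.ofSpMap (spHom (BasedFunctor.comp e (fpFst w f)))).toFunctor) ((BasedNatTrans.forgetful _ _).mapIso i)
    exact mono_of_full_ofSpMap (spHom (BasedFunctor.comp e (fpFst w f)))
  · rintro ⟨V, a, e, he, ⟨i⟩, ha⟩
    have : (AlgSt.ofSpMap a.hom).toFunctor.Full := full_ofSpMap a.hom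
    have hc : (BasedFunctor.comp e (fpFst w f)).toFunctor.Full :=
      Functor.Full.of_iso (F := (AlgSt.ofSpMap a.hom).toFunctor) (F' := (BasedFunctor.comp e (fpFst w f)).toFunctor)
        ((BasedNatTrans.forgetful _ _).mapIso i.symm)
    obtain ⟨_, _, hsurj⟩ := EqvData.of_isEquivOver he
    have : e.toFunctor.EssSurj := ⟨fun z => let ⟨ξ, ε, _⟩ := hsurj z; ⟨ξ, ⟨ε⟩⟩⟩
    have : (fpFst w f).toFunctor.Full := by
      refine ⟨fun {z z'} k => ?_⟩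
      obtain ⟨ξ, ε, -⟩ := hsurj z
      obtain ⟨ξ', ε', -⟩ := hsurj z'
      obtain ⟨m, hm⟩ := hc.map_surjective ((fpFst w f).map ε.hom ≫ k ≫ (fpFst w f).map ε'.inv)
      refine ⟨ε.inv ≫ e.map m ≫ ε'.hom, ?_⟩
      rw [Functor.map_comp, Functor.map_comp]
      show _ ≫ (BasedFunctor.comp e (fpFst w f)).map m ≫ _ = k
      rw [hm]
      show ((fpFst w f).toFunctor.mapIso ε).inv ≫ (((fpFst w f).toFunctor.mapIso ε).hom ≫ k ≫
        ((fpFst w f).toFunctor.mapIso ε').inv) ≫ ((fpFst w f).toFunctor.mapIso ε').hom = k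
      simp only [Category.assoc, Iso.inv_hom_id_assoc, Iso.inv_hom_id]
      exact Category.comp_id k
    have : (fpFst w f).toFunctor.Faithful := faithful_of_setoid (fpFst w f) (setoid_of_repByAlgSp ⟨V, e, he⟩) hWs
    have hf := repByAlgSp1_of_cover h𝒳 h𝒴 f hw₁ hw₂ hw₃ ⟨V, e, he⟩
    exact with_of_cover respSrc_of_respectsIso schDescent_mono hf hw₁ hw₂ hw₃ (isMono_of_ff hfpA hWA (fpFst w f))

end Groth.Agent.Stk19b
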