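import Groth.Agent.Stk19b.Boot.Coord
import Mathlib.AlgebraicGeometry.AffineSpace
import Mathlib.AlgebraicGeometry.Morphisms.Etale
import Mathlib.AlgebraicGeometry.Morphisms.Immersion
import Mathlib.AlgebraicGeometry.Morphisms.Smooth

/-! The étale locus of a morphism of schemes, read on coordinates. -/

set_option autoImplicit false
set_option linter.style.haveILetI false
set_option backward.isDefEq.respectTransparency false
set_option backward.isDefEq.respectTransparency.types false

universe u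

open CategoryTheory CategoryTheory.Limits AlgebraicGeometry TensorProduct

namespace Groth.Agent.Stk19b.Boot

variable {X Y Z : Scheme.{u}}

/-- The points near which a morphism is étale. -/
def etLocus (g : X ⟶ Y) : X.Opens :=
  ⨆ U : {U : X.Opens // Etale (U.ι ≫ g)}, U.1

theorem mem_etLocus {g : X ⟶ Y} {x : X} :
    x ∈ etLocus g ↔ ∃ U : X.Opens, Etale (U.ι ≫ g) ∧ x ∈ U := by
  simp [etLocus]

theorem etale_etLocus_ι (g : X ⟶ Y) : Etale ((etLocus g).ι ≫ g) := by
  let O : {U : X.Opens // Etale (U.ι ≫ g)} → (etLocus g).toScheme.Opens := fun U => (etLocus g).ι ⁻¹ᵁ U.1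
  refine IsZariskiLocalAtSource.of_openCover (P := @Etale)
    (Scheme.openCoverOfIsOpenCover _ O (TopologicalSpace.Opens.coe_inj.1 ?_)) fun U => ?_
  · ext w
    simp only [TopologicalSpace.Opens.coe_top, Set.mem_univ, iff_true]
    obtain ⟨U, hU⟩ := TopologicalSpace.Opens.mem_iSup.1 w.2
    exact TopologicalSpace.Opens.mem_iSup.2 ⟨U, hU⟩
  · show Etale ((O U).ι ≫ (etLocus g).ι ≫ g)
    have := U.2
    have hr : Set.range ((O U).ι ≫ (etLocus g).ι) ⊆ Set.range U.1.ι := by
      rintro _ ⟨w, rfl⟩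
      rw [Scheme.Opens.range_ι]
      exact w.2
    rw [← Category.assoc, ← IsOpenImmersion.lift_fac U.1.ι _ hr, Category.assoc]
    infer_instance

theorem mem_etLocus_openImm_iff {X' : Scheme.{u}} (i : X' ⟶ X) [IsOpenImmersion i] (g : X ⟶ Y) (x : X') :
    x ∈ etLocus (i ≫ g) ↔ i x ∈ etLocus g := by
  simp only [mem_etLocus]
  constructor
  · rintro ⟨U, hU, hx⟩
    refine ⟨i ''ᵁ U, ?_, ⟨x, hx, rfl⟩⟩
    rw [← Scheme.Hom.isoImage_inv_ι_assoc]
    exact (MorphismProperty.cancel_left_of_respectsIso @Etale (i.isoImage U).inv _).2 hU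
  · rintro ⟨U, hU, hx⟩
    refine ⟨i ⁻¹ᵁ U, ?_, hx⟩
    have e : (i ∣_ U) ≫ U.ι = (i ⁻¹ᵁ U).ι ≫ i := morphismRestrict_ι i U
    rw [← Category.assoc, ← e, Category.assoc]
    infer_instance

theorem etLocus_comp_openImm (g : X ⟶ Y) (j : Y ⟶ Z) [IsOpenImmersion j] : etLocus (g ≫ j) = etLocus g := by
  ext x
  simp only [SetLike.mem_coe, mem_etLocus]
  refine exists_congr fun U => and_congr_left fun _ => ⟨fun h => ?_, fun h => ?_⟩
  · rw [← Category.assoc] at h
    exact Etale.of_comp _ j
  · rw [← Category.assoc]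
    infer_instance

theorem mem_etLocus_Spec_iff {R B : Type u} [CommRing R] [CommRing B] [Algebra R B]
    [Algebra.FinitePresentation R B] (x : PrimeSpectrum B) :
    x ∈ etLocus (Spec.map (CommRingCat.ofHom (algebraMap R B))) ↔ Algebra.IsEtaleAt R x.asIdeal := by
  let g := Spec.map (CommRingCat.ofHom (algebraMap R B))
  have key : ∀ f : B, Etale (Spec.map (CommRingCat.ofHom (algebraMap B (Localization.Away f))) ≫ g) ↔
      Algebra.Etale R (Localization.Away f) := fun f => by
    rw [← Spec.map_comp, ← CommRingCat.ofHom_comp, ← IsScalarTower.algebraMap_eq, HasRingHomProperty.Spec_iff (P := @Etale)]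
    exact RingHom.etale_algebraMap
  constructor
  · rw [mem_etLocus]
    rintro ⟨U, hU, hx⟩
    obtain ⟨_, ⟨_, ⟨f, rfl⟩, rfl⟩, hxf, hfU⟩ :=
      PrimeSpectrum.isBasis_basic_opens.exists_subset_of_mem_open hx U.2
    let a := Spec.map (CommRingCat.ofHom (algebraMap B (Localization.Away f)))
    have hr : Set.range a ⊆ Set.range U.ι := by
      rw [Scheme.Opens.range_ι]
      exact (PrimeSpectrum.localization_away_comap_range (Localization.Away f) f).trans_subset hfU
    have : Etale (a ≫ g) := by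
      rw [← IsOpenImmersion.lift_fac U.ι a hr, Category.assoc]
      infer_instance
    have := (key f).1 this
    exact Algebra.basicOpen_subset_etaleLocus_iff_etale.2 this hxf
  · intro h
    haveI := h
    obtain ⟨f, hf, hF⟩ := Algebra.exists_etale_of_isEtaleAt (R := R) x.asIdeal
    let a := Spec.map (CommRingCat.ofHom (algebraMap B (Localization.Away f)))
    have ha : Etale (a ≫ g) := (key f).2 hF
    obtain ⟨z, rfl⟩ : x ∈ Set.range a := by
      exact (PrimeSpectrum.localization_away_comap_range (Localization.Away f) f).symm.subset hf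
    exact (mem_etLocus_openImm_iff a g z).1
      (mem_etLocus.2 ⟨⊤, by
        have : Etale (a ≫ g) := ha
        infer_instance, trivial⟩)

/-- Coordinates as a morphism to affine space. -/
noncomputable def coordHom {U : Scheme.{u}} {m : ℕ} (p : X ⟶ U) (c : Fin m → Γ(X, ⊤)) :
    X ⟶ 𝔸(ULift.{u} (Fin m); U) :=
  AffineSpace.homOfVector p fun i => c i.down

theorem comp_coordHom {X' U : Scheme.{u}} {m : ℕ} (f : X' ⟶ X) (p : X ⟶ U) (c : Fin m → Γ(X, ⊤)) :
    f ≫ coordHom p c = coordHom (f ≫ p) (fun i => f.appTop (c i)) :=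
  AffineSpace.comp_homOfVector _ _ _

theorem coordHom_map {U V : Scheme.{u}} {m : ℕ} (p : X ⟶ U) (j : U ⟶ V) (c : Fin m → Γ(X, ⊤)) :
    coordHom p c ≫ AffineSpace.map _ j = coordHom (p ≫ j) c := by
  apply AffineSpace.hom_ext
  · simp [coordHom]
  · intro i
    simp only [coordHom, Scheme.Hom.comp_appTop, CommRingCat.comp_apply, AffineSpace.map_appTop_coord,
      AffineSpace.homOfVector_appTop_coord]

theorem isOpenImmersion_affineSpaceMap {U V : Scheme.{u}} (n : Type u) (j : U ⟶ V) [IsOpenImmersion j] :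
    IsOpenImmersion (AffineSpace.map n j) :=
  MorphismProperty.of_isPullback (P := @IsOpenImmersion) (AffineSpace.isPullback_map (n := n) j).flip inferInstance

theorem coordHom_Spec {A B : CommRingCat.{u}} {m : ℕ} (φ : A ⟶ B) (b : Fin m → B) :
    coordHom (Spec.map φ) (fun i => (Scheme.ΓSpecIso B).inv (b i)) =
      Spec.map (CommRingCat.ofHom (MvPolynomial.eval₂Hom φ.hom fun i : ULift.{u} (Fin m) => b i.down)) ≫
        (AffineSpace.SpecIso (ULift.{u} (Fin m)) A).inv := by
  apply AffineSpace.hom_ext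
  · simp only [coordHom, Category.assoc, AffineSpace.SpecIso_inv_over, AffineSpace.homOfVector_over,
      ← Spec.map_comp, ← CommRingCat.ofHom_comp, MvPolynomial.eval₂Hom_comp_C, CommRingCat.ofHom_hom]
  · intro i
    simp only [coordHom, AffineSpace.homOfVector_appTop_coord, Scheme.Hom.comp_appTop, CommRingCat.comp_apply,
      AffineSpace.SpecIso_inv_appTop_coord]
    rw [← CommRingCat.comp_apply, ← Scheme.ΓSpecIso_inv_naturality, CommRingCat.comp_apply]
    simp
    rfl

/-- Étale coordinates near a point, read in an affine chart. -/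
theorem mem_etLocus_coordHom_iff {U : Scheme.{u}} {A B : CommRingCat.{u}} {m : ℕ} (p : X ⟶ U) [Smooth p]
    (c : Fin m → Γ(X, ⊤)) (i : Spec B ⟶ X) [IsOpenImmersion i] (j : Spec A ⟶ U) [IsOpenImmersion j]
    (φ : A ⟶ B) (hφ : i ≫ p = Spec.map φ ≫ j) (x : Spec B) :
    letI := φ.hom.toAlgebra
    i x ∈ etLocus (coordHom p c) ↔
      IsCoordAt A x.asIdeal (fun k => (Scheme.ΓSpecIso B).hom (i.appTop (c k))) := by
  letI := φ.hom.toAlgebra
  have : Smooth (Spec.map φ ≫ j) := hφ ▸ inferInstance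
  have : Smooth (Spec.map φ) := MorphismProperty.of_postcomp @Smooth (W' := @IsOpenImmersion) _ j inferInstance this
  have hs : Algebra.Smooth A B := (HasRingHomProperty.Spec_iff (P := @Smooth)).1 this
  have : Algebra.IsSmoothAt A x.asIdeal :=
    Algebra.FormallySmooth.comp A B (Localization.AtPrime x.asIdeal)
  let b : Fin m → B := fun k => (Scheme.ΓSpecIso B).hom (i.appTop (c k))
  rw [← mem_etLocus_openImm_iff i, comp_coordHom, hφ, ← coordHom_map]
  have := isOpenImmersion_affineSpaceMap (ULift.{u} (Fin m)) j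
  rw [etLocus_comp_openImm, show (fun k => i.appTop (c k)) = fun k => (Scheme.ΓSpecIso B).inv (b k) from
    funext fun k => (Iso.hom_inv_id_apply (Scheme.ΓSpecIso B) _).symm, coordHom_Spec, etLocus_comp_openImm]
  let σ := MvPolynomial.renameEquiv A (Equiv.ulift.{u} : ULift.{u} (Fin m) ≃ Fin m)
  have e : MvPolynomial.eval₂Hom φ.hom (fun i : ULift.{u} (Fin m) => b i.down) =
      (MvPolynomial.aeval b : MvPolynomial (Fin m) A →ₐ[A] B).toRingHom.comp σ.toRingEquiv.toRingHom := by
    apply MvPolynomial.ringHom_ext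
    · intro a; simp [σ, RingHom.algebraMap_toAlgebra]
    · intro k; simp [σ]
  have : IsOpenImmersion (Spec.map (CommRingCat.ofHom σ.toRingEquiv.toRingHom)) :=
    have : IsIso (CommRingCat.ofHom σ.toRingEquiv.toRingHom) :=
      inferInstanceAs (IsIso σ.toRingEquiv.toCommRingCatIso.hom)
    inferInstance
  rw [e, CommRingCat.ofHom_comp, Spec.map_comp, etLocus_comp_openImm]
  letI : Algebra (MvPolynomial (Fin m) A) B := (MvPolynomial.aeval b).toRingHom.toAlgebra
  haveI : IsScalarTower A (MvPolynomial (Fin m) A) B :=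
    IsScalarTower.of_algebraMap_eq' (MvPolynomial.aeval b).comp_algebraMap.symm
  haveI : Algebra.FinitePresentation (MvPolynomial (Fin m) A) B :=
    Algebra.FinitePresentation.of_restrict_scalars_finitePresentation A _ _
  exact (mem_etLocus_Spec_iff x).trans (isEtaleAt_iff_isCoordAt x.asIdeal b)

theorem exists_affine_chart {x : X} {O : X.Opens} (hx : x ∈ O) :
    ∃ (B : CommRingCat.{u}) (i : Spec B ⟶ X) (_ : IsOpenImmersion i) (y : Spec B),
      i y = x ∧ Set.range i ⊆ O := by
  obtain ⟨B, i, hi, hxi, hO⟩ := Scheme.exists_affine_mem_range_and_range_subset hx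
  obtain ⟨y, rfl⟩ := hxi
  exact ⟨B, i, hi, y, rfl, hO⟩

/-- Unramified over a product gives coordinates pulled back from the second factor. -/
theorem exists_coord {U V S : Scheme.{u}} [IsAffine V] (s : U ⟶ S) (t : V ⟶ S) (p : X ⟶ U) [Smooth p]
    (q : X ⟶ V) (w : p ≫ s = q ≫ t) [FormallyUnramified (pullback.lift p q w)] (x : X) :
    ∃ (m : ℕ) (c : Fin m → Γ(V, ⊤)), x ∈ etLocus (coordHom p fun k => q.appTop (c k)) := by
  obtain ⟨A, j, hj, a, ha, -⟩ := exists_affine_chart (O := (⊤ : U.Opens)) (x := p x) trivial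
  obtain ⟨B, i, hi, y, rfl, hB⟩ := exists_affine_chart (O := p ⁻¹ᵁ j.opensRange) (x := x) ⟨a, ha⟩
  obtain ⟨φ, hφ⟩ := Spec.map_surjective (IsOpenImmersion.lift j (i ≫ p) (by
    rintro _ ⟨z, rfl⟩; exact hB ⟨z, rfl⟩))
  have hip : i ≫ p = Spec.map φ ≫ j := by rw [hφ, IsOpenImmersion.lift_fac]
  obtain ⟨ψ, hψ⟩ := Spec.map_surjective (i ≫ q ≫ V.isoSpec.hom)
  obtain ⟨R, ⟨hR⟩⟩ : ∃ R : CommRingCat.{u}, Nonempty (IsTerminal (Spec R)) := ⟨_, ⟨specULiftZIsTerminal⟩⟩
  obtain ⟨α, -⟩ := Spec.map_surjective (hR.from (Spec A))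
  obtain ⟨β, -⟩ := Spec.map_surjective (hR.from (Spec Γ(V, ⊤)))
  letI := φ.hom.toAlgebra
  letI : Algebra R A := α.hom.toAlgebra
  letI : Algebra R Γ(V, ⊤) := β.hom.toAlgebra
  letI : Algebra R B := (φ.hom.comp α.hom).toAlgebra
  have hc : β ≫ ψ = α ≫ φ := Spec.map_injective (hR.hom_ext _ _)
  let χ : A ⊗[R] Γ(V, ⊤) →+* B := (Algebra.TensorProduct.lift
    ({ φ.hom with commutes' := fun _ => rfl } : A →ₐ[R] B)
    ({ ψ.hom with commutes' := fun r => congrArg (fun f => f.hom r) hc } : Γ(V, ⊤) →ₐ[R] B)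
    fun _ _ => Commute.all _ _).toRingHom
  letI : Algebra (A ⊗[R] Γ(V, ⊤)) B := χ.toAlgebra
  haveI : IsScalarTower A (A ⊗[R] Γ(V, ⊤)) B := IsScalarTower.of_algebraMap_eq fun a => by
    show _ = χ (a ⊗ₜ 1)
    simp [χ]
    rfl
  let W := pullback (j ≫ s) t
  let k : Spec B ⟶ W := pullback.lift (Spec.map φ) (i ≫ q) (by rw [← Category.assoc, ← hip, Category.assoc, w, Category.assoc])
  have : FormallyUnramified k := by
    let e : W ⟶ pullback s t := pullback.lift (pullback.fst _ _ ≫ j) (pullback.snd _ _)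
      (by rw [Category.assoc, pullback.condition])
    have h : k ≫ e = i ≫ pullback.lift p q w := by
      apply pullback.hom_ext <;> simp [k, e, hip]
    have : Etale i := inferInstance
    have : FormallyUnramified (k ≫ e) := h ▸ MorphismProperty.comp_mem _ _ _
      (inferInstance : FormallyUnramified i) ‹FormallyUnramified (pullback.lift p q w)›
    exact FormallyUnramified.of_comp k e
  let b₁ := Spec.map (CommRingCat.ofHom (algebraMap R A))
  let b₂ := Spec.map (CommRingCat.ofHom (algebraMap R Γ(V, ⊤)))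
  let l : W ⟶ pullback b₁ b₂ := pullback.lift (pullback.fst _ _) (pullback.snd _ _ ≫ V.isoSpec.hom)
    (hR.hom_ext _ _)
  have : FormallyUnramified l := by
    have : Mono l := ⟨fun {Z} f g h => by
      have h1 := congrArg (· ≫ pullback.fst _ _) h
      have h2 := congrArg (· ≫ pullback.snd _ _) h
      simp [l] at h1 h2
      exact pullback.hom_ext h1 h2⟩
    infer_instance
  have key : Spec.map (CommRingCat.ofHom χ) = k ≫ l ≫ (pullbackSpecIso R A Γ(V, ⊤)).hom := by
    rw [← Category.assoc, ← Iso.comp_inv_eq]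
    apply pullback.hom_ext
    · simp only [Category.assoc, l, pullback.lift_fst, k]
      erw [pullbackSpecIso_inv_fst']
      rw [← Spec.map_comp, ← CommRingCat.ofHom_comp]
      congr 1
      ext a
      exact (IsScalarTower.algebraMap_apply A (A ⊗[R] Γ(V, ⊤)) B a).symm
    · simp only [Category.assoc, l, pullback.lift_snd, k, pullback.lift_snd_assoc]
      erw [pullbackSpecIso_inv_snd]
      rw [← hψ, ← Spec.map_comp, ← CommRingCat.ofHom_comp]
      congr 1
      ext a
      show χ (1 ⊗ₜ a) = ψ a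
      simp [χ]
  have hu : FormallyUnramified (Spec.map (CommRingCat.ofHom χ)) := key ▸ MorphismProperty.comp_mem _ _ _ ‹FormallyUnramified k›
    (MorphismProperty.comp_mem _ _ _ ‹FormallyUnramified l›
      (have : Etale (pullbackSpecIso R A Γ(V, ⊤)).hom := inferInstance; inferInstance))
  haveI : Algebra.FormallyUnramified (A ⊗[R] Γ(V, ⊤)) B := (HasRingHomProperty.Spec_iff (P := @FormallyUnramified)).1 hu
  have : Smooth (Spec.map φ ≫ j) := hip ▸ inferInstance
  have : Smooth (Spec.map φ) := MorphismProperty.of_postcomp @Smooth (W' := @IsOpenImmersion) _ j inferInstance this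
  have hs : Algebra.Smooth A B := (HasRingHomProperty.Spec_iff (P := @Smooth)).1 this
  obtain ⟨m, c, hc⟩ := exists_isCoordAt (A := (A : Type u)) (C := Γ(V, ⊤)) (fun z => χ (1 ⊗ₜ z))
    (span_of_unramified (R := R)) y.asIdeal
  refine ⟨m, c, (mem_etLocus_coordHom_iff p _ i j φ hip y).2 ?_⟩
  convert! hc using 2
  rename_i z
  rw [show χ (1 ⊗ₜ c z) = ψ (c z) by simp [χ]]
  have hinv : V.isoSpec.inv.appTop = (Scheme.ΓSpecIso Γ(V, ⊤)).inv := by
    rw [← cancel_epi V.isoSpec.hom.appTop, ← Scheme.Hom.comp_appTop, Iso.inv_hom_id]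
    simp [Scheme.isoSpec]
  have hiq : i ≫ q = Spec.map ψ ≫ V.isoSpec.inv := by rw [hψ, Category.assoc, Category.assoc, Iso.hom_inv_id, Category.comp_id]
  rw [← CommRingCat.comp_apply (q.appTop), ← Scheme.Hom.comp_appTop, hiq, Scheme.Hom.comp_appTop,
    ← CommRingCat.comp_apply, Category.assoc, Scheme.ΓSpecIso_naturality, hinv,
    Iso.inv_hom_id_assoc]

end Groth.Agent.Stk19b.Boot
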