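import Groth.Agent.Stk19b.Boot.Main
import Groth.Agent.Stk19.AlgSt.PshRep
import Groth.Agent.Stk19.AlgSt.LocQ
import Groth.Agent.Stk19.AlgSt.AlgMisc

/-! An algebraic stack fibred in setoids is an algebraic space. -/

set_option autoImplicit false
set_option linter.style.haveILetI false
set_option backward.isDefEq.respectTransparency false
set_option backward.isDefEq.respectTransparency.types false

universe u

open CategoryTheory CategoryTheory.Limits AlgebraicGeometry Opposite FibCat Groth.Agent.Stk19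

namespace Groth.Agent.Stk19b

variable {S : Scheme.{u}} {𝒳 𝒴 : AlgSt.Cat S}

theorem respSrc_surj_smooth :
    RespSrc (AlgSp.IsSurjectiveMor ⊓ AlgSp.LocP @Smooth : MorphismProperty (AlgSp.Sp S)) :=
  respSrc_of_baseChange (pbStable_surjective.inf (pbStable_locP AlgSpLib.etLocal_smooth))

/-- A stack in setoids with a smooth surjective chart by an algebraic space is an algebraic space. -/
theorem repByAlgSp_of_smooth_cover (h𝒳 : Stk.IsStack (AlgSp.J S) 𝒳) (hs : IsFibSetoid 𝒳.p) (X : AlgSp.Space S)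
    (x : AlgSt.ofSp X.obj ⥤ᵇ 𝒳)
    (hx : AlgSt.RepByAlgSpWith (AlgSp.IsSurjectiveMor ⊓ AlgSp.LocP @Smooth) x) : AlgSt.RepByAlgSp 𝒳 := by
  obtain ⟨P, E, hE⟩ := exists_psh_of_setoid hs
  have hP : Presheaf.IsSheaf (AlgSp.J S) P := (isSheaf_iff_isSheaf_of_type _ _).2
    ((isStack_ofPsh_iff _).1 ((isStack_iff_of_equiv _ hE).1 h𝒳))
  let F : AlgSp.Sp S := ⟨P, hP⟩
  let Φ : AlgSt.ofSp X.obj ⥤ᵇ AlgSt.ofSp F := BasedFunctor.comp x E
  have hΦ : AlgSt.RepByAlgSpWith (AlgSp.IsSurjectiveMor ⊓ AlgSp.LocP @Smooth) (AlgSt.ofSpMap (spHom Φ)) :=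
    repByAlgSpWith_of_iso (spHom_iso Φ).some (with_comp_equiv hE hx)
  have hp : AlgSp.RepBySpWith (AlgSp.IsSurjectiveMor ⊓ AlgSp.LocP @Smooth) (spHom Φ).hom := by
    intro W ξ F' fst snd sq
    obtain ⟨hF', hA⟩ := repBySp_of_repByAlgSp1 (spHom Φ).hom (repByAlgSp1_of_with hΦ) ξ fst snd sq
    obtain ⟨e, he, k⟩ := exists_psh_chart sq hF' (Iso.refl _)
    obtain ⟨T', e', he', hq⟩ := hΦ W _
    exact ⟨hF', hA, k ▸ repWith_any respSrc_surj_smooth he' hq (F' := ⟨⟨F', hF'⟩, hA⟩) e he⟩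
  exact repByAlgSp_of_equiv' (E := E) hE (repByAlgSp_ofSp ⟨F, Boot.isAlgSpace_of_smooth_cover X.property (spHom Φ) hp⟩)

/-- An algebraic stack fibred in setoids is representable by an algebraic space. -/
theorem repByAlgSp_of_setoid (h : AlgSt.IsAlgStack Scheme.fppfPrecoverage 𝒳) (hs : IsFibSetoid 𝒳.p) :
    AlgSt.RepByAlgSp 𝒳 := by
  obtain ⟨U, x, hx, hx'⟩ := h.atlas
  exact repByAlgSp_of_smooth_cover h.isStack hs ⟨_, AlgSp.IsAlgSpace.yon_obj U⟩
    (BasedFunctor.comp (AlgSt.toOverCat U) x)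
    (repByAlgSpWith_mono (fun _ _ _ _ h => ⟨h.2, h.1⟩)
      (with_equiv_comp (isEquivOver_toOverCat U)
        (repByAlgSpWith_and (respSrc_of_baseChange pbStable_surjective) hx hx')))

theorem isAlgStack_overCat (U : Over S) : AlgSt.IsAlgStack Scheme.fppfPrecoverage (overCat U) :=
  (isDM_of_repByAlgSp (repByAlgSp_overCat U)).1

/-- A faithful map of algebraic stacks is representable by algebraic spaces. -/
theorem repByAlgSp1_of_faithful (h𝒳 : AlgSt.IsAlgStack Scheme.fppfPrecoverage 𝒳)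
    (h𝒴 : AlgSt.IsAlgStack Scheme.fppfPrecoverage 𝒴) (f : 𝒳 ⥤ᵇ 𝒴) [f.toFunctor.Faithful] :
    AlgSt.RepByAlgSp1 f := fun U y =>
  repByAlgSp_of_setoid (isAlgStack_fp h𝒴.isStack h𝒴.diag (isAlgStack_overCat U) h𝒳 y f)
    (setoid_fp _ _ (setoid_of_repByAlgSp (repByAlgSp_overCat U)) h𝒳.isStack.1 h𝒴.isStack.1)

theorem faithful_iff_rep1 (h𝒳 : AlgSt.IsAlgStack Scheme.fppfPrecoverage 𝒳)
    (h𝒴 : AlgSt.IsAlgStack Scheme.fppfPrecoverage 𝒴) (f : 𝒳 ⥤ᵇ 𝒴) :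
    f.toFunctor.Faithful ↔ AlgSt.RepByAlgSp1 f :=
  ⟨fun h => @repByAlgSp1_of_faithful _ _ _ h𝒳 h𝒴 f h, faithful_of_repByAlgSp1 h𝒳.isStack.1 h𝒴.isStack.1⟩

end Groth.Agent.Stk19b
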