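import Groth.Agent.Stk19b.Boot.Main
import Groth.Agent.AlgSpLib.FppfEpi
import Groth.Agent.FlatMorSmoothSect.Scheme
import Mathlib.CategoryTheory.Sites.LocallySurjective
import Mathlib.CategoryTheory.Sites.LocallyInjective

/-! An etale sheaf with a smooth surjective cover by an algebraic space is an fppf sheaf and an algebraic space. -/

set_option autoImplicit false
set_option linter.style.haveILetI false
set_option backward.isDefEq.respectTransparency false
set_option backward.isDefEq.respectTransparency.types false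

universe u

open CategoryTheory CategoryTheory.Limits AlgebraicGeometry Opposite

noncomputable section

namespace Groth.Agent.Stk19b.Boot

variable {S : Scheme.{u}} {F G : AlgSp.PSp S}

theorem hom_ext_of_separated {J : GrothendieckTopology (Over S)} (hG : Presieve.IsSeparated J G) {T : Over S}
    {R : Sieve T} (hR : R ∈ J T) {ξ η : (AlgSp.pyon S).obj T ⟶ G}
    (h : ∀ ⦃V : Over S⦄ (f : V ⟶ T), R f → (AlgSp.pyon S).map f ≫ ξ = (AlgSp.pyon S).map f ≫ η) : ξ = η := by
  apply uliftYonedaEquiv.{u + 1}.injective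
  refine (hG R hR).ext fun V f hf => ?_
  exact (uliftYonedaEquiv_naturality.{u + 1} ξ f.op).trans
    ((congrArg _ (h f hf)).trans (uliftYonedaEquiv_naturality.{u + 1} η f.op).symm)

theorem exists_hom_of_mem {J : GrothendieckTopology (Over S)} (hG : Presheaf.IsSheaf J G) {T : Over S}
    {R : Sieve T} (hR : R ∈ J T) (ζ : ∀ ⦃V : Over S⦄ (f : V ⟶ T), R f → ((AlgSp.pyon S).obj V ⟶ G))
    (h : ∀ ⦃V V' : Over S⦄ (f : V ⟶ T) (g : V' ⟶ V) (hf : R f),
      ζ (g ≫ f) (R.downward_closed hf g) = (AlgSp.pyon S).map g ≫ ζ f hf) :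
    ∃ l : (AlgSp.pyon S).obj T ⟶ G, ∀ ⦃V : Over S⦄ (f : V ⟶ T) (hf : R f), (AlgSp.pyon S).map f ≫ l = ζ f hf := by
  let x : R.arrows.FamilyOfElements G := fun V f hf => uliftYonedaEquiv.{u + 1} (ζ f hf)
  have hx : x.SieveCompatible := fun V V' f g hf =>
    (congrArg uliftYonedaEquiv.{u + 1} (h f g hf)).trans (uliftYonedaEquiv_naturality.{u + 1} (ζ f hf) g.op).symm
  obtain ⟨t, ht, -⟩ := ((isSheaf_iff_isSheaf_of_type _ _).1 hG) R hR x
    ((Presieve.compatible_iff_sieveCompatible x).2 hx)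
  refine ⟨uliftYonedaEquiv.{u + 1}.symm t, fun V f hf => uliftYonedaEquiv.{u + 1}.injective ?_⟩
  refine (uliftYonedaEquiv_naturality.{u + 1} (uliftYonedaEquiv.{u + 1}.symm t) f.op).symm.trans ?_
  rw [Equiv.apply_symm_apply]
  exact ht f hf

/-- Jointly surjective etale families cover for the etale topology. -/
theorem ofArrows_mem_etale {ι : Type u} {Z : Over S} {W : ι → Over S} (c : ∀ i, W i ⟶ Z)
    (he : ∀ i, Etale (c i).left) (hc : ∀ z : Z.left, ∃ i, z ∈ Set.range (c i).left) :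
    Sieve.ofArrows W c ∈ QuotSh.J Scheme.etalePrecoverage S Z := by
  show Sieve.overEquiv Z (Sieve.ofArrows W c) ∈ Scheme.etalePrecoverage.toGrothendieck Z.left
  have : Scheme.etalePrecoverage.{u}.IsStableUnderComposition :=
    inferInstanceAs (Scheme.precoverage @Etale).IsStableUnderComposition
  have : Scheme.etalePrecoverage.{u}.IsStableUnderBaseChange :=
    inferInstanceAs (Scheme.precoverage @Etale).IsStableUnderBaseChange
  have : Scheme.etalePrecoverage.{u}.HasIsos := inferInstanceAs (Scheme.precoverage @Etale).HasIsos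
  rw [Precoverage.mem_toGrothendieck_iff_of_isStableUnderComposition]
  refine ⟨(PreZeroHypercover.mk ι _ fun i => (c i).left : PreZeroHypercover Z.left).presieve₀,
    (Scheme.presieve₀_mem_precoverage_iff _).2 ⟨hc, he⟩, fun Y f hf => ?_⟩
  obtain ⟨i⟩ := hf
  rw [Sieve.overEquiv_iff]
  have e : (Over.homMk (c i).left : Over.mk ((c i).left ≫ Z.hom) ⟶ Z) =
      (Over.homMk (𝟙 (W i).left) ((Category.id_comp _).trans (Over.w (c i)).symm) :
        Over.mk ((c i).left ≫ Z.hom) ⟶ W i) ≫ c i := Over.OverMorphism.ext (Category.id_comp _).symm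
  rw [e]
  exact Sieve.downward_closed _ (Sieve.ofArrows_mk _ _ i) _

variable {V : Over S} {a : (AlgSp.pyon S).obj V ⟶ F}
  (ha : AlgSp.RepBySpWith (AlgSp.IsSurjectiveMor ⊓ AlgSp.LocP @Smooth) a)

include ha in
/-- Sections lift etale locally along a smooth surjection. -/
theorem exists_etale_lifts {T : Over S} (ξ : (AlgSp.pyon S).obj T ⟶ F) :
    ∃ R : Sieve T, R ∈ QuotSh.J Scheme.etalePrecoverage S T ∧ R ∈ AlgSp.J S T ∧
      ∀ ⦃Z : Over S⦄ (f : Z ⟶ T), R f → ∃ ζ : (AlgSp.pyon S).obj Z ⟶ (AlgSp.pyon S).obj V,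
        ζ ≫ a = (AlgSp.pyon S).map f ≫ ξ := by
  have sq := IsPullback.of_hasPullback a ξ
  obtain ⟨hs, hA, hsur, hsm⟩ := ha ξ _ _ sq
  obtain ⟨W, e, hee, hes⟩ := hA.atlas
  let π : (⟨pullback a ξ, hs⟩ : AlgSp.Sp S) ⟶ (AlgSp.yon S).obj T := ObjectProperty.homMk (pullback.snd a ξ)
  obtain ⟨c, hc⟩ := (AlgSp.yon S).map_surjective (e ≫ π)
  have : Smooth c.left := AlgSp.locP_yon_map (hc ▸ AlgSpLib.locP_comp AlgSpLib.etLocal_smooth
    (AlgSp.IsAlgSpace.yon_obj W) hA (AlgSp.IsAlgSpace.yon_obj T)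
    (AlgSpLib.locP_of_repWith AlgSpLib.etLocal_smooth (AlgSp.IsAlgSpace.yon_obj W)
      (AlgSpLib.RepWith.mono (fun _ _ g (_ : Etale g) => (inferInstance : Smooth g)) hee)) hsm)
  have hcs : Function.Surjective c.left := ((AlgSpLib.surjective_map_yon_map_iff c).1 (by
    rw [hc]
    intro t
    obtain ⟨z, rfl⟩ := hsur t
    obtain ⟨w, rfl⟩ := AlgSpLib.surjective_map_of_repWith hes z
    exact ⟨w, AlgSp.Points.map_comp _ _ _⟩)).surj
  choose x hx using hcs
  choose T' g s hg hgs h hh using fun t => FlatMorSmoothSect.exists_section_etale_locally c.left (x t)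
  let W' : T.left → Over S := fun t => Over.mk (g t ≫ T.hom)
  let cs : ∀ t, W' t ⟶ T := fun t => Over.homMk (g t)
  have hcov : ∀ z : T.left, ∃ t, z ∈ Set.range (cs t).left := fun z => ⟨z, s z, (hgs z).trans (hx z)⟩
  have : ∀ t, Flat (cs t).left := fun t => have := hg t; (inferInstance : Flat (g t))
  have : ∀ t, LocallyOfFinitePresentation (cs t).left := fun t =>
    have := hg t; (inferInstance : LocallyOfFinitePresentation (g t))
  refine ⟨Sieve.ofArrows W' cs, ofArrows_mem_etale cs hg hcov, AlgSpLib.ofArrows_mem_J cs hcov, fun Z f hf => ?_⟩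
  obtain ⟨_, d, _, hi, rfl⟩ := hf
  obtain ⟨t⟩ := hi
  let k : W' t ⟶ W := Over.homMk (h t) (by
    show h t ≫ W.hom = g t ≫ T.hom
    rw [← hh t, Category.assoc, Over.w c])
  have hk : k ≫ c = cs t := Over.OverMorphism.ext (hh t)
  refine ⟨(AlgSp.pyon S).map (d ≫ k) ≫ e.hom ≫ pullback.fst a ξ, ?_⟩
  have hc' : (AlgSp.pyon S).map c = e.hom ≫ pullback.snd a ξ := congrArg (fun m => m.hom) hc
  rw [Category.assoc, Category.assoc, sq.w, ← reassoc_of% hc', ← Functor.map_comp_assoc, Category.assoc, hk]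

include ha in
theorem separated_fppf (hF : Presheaf.IsSheaf (QuotSh.J Scheme.etalePrecoverage S) F) :
    Presieve.IsSeparated (AlgSp.J S) F := by
  have hFe := ((isSheaf_iff_isSheaf_of_type _ _).1 hF).isSeparated
  have key : ∀ {T : Over S} {R : Sieve T}, R ∈ AlgSp.J S T →
      ∀ (ζ : (AlgSp.pyon S).obj T ⟶ (AlgSp.pyon S).obj V) (η : (AlgSp.pyon S).obj T ⟶ F),
      (∀ ⦃Z : Over S⦄ (f : Z ⟶ T), R f → (AlgSp.pyon S).map f ≫ ζ ≫ a = (AlgSp.pyon S).map f ≫ η) →
      ζ ≫ a = η := by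
    intro T R hR ζ η h
    have sq := IsPullback.of_hasPullback a η
    obtain ⟨hs, -, -⟩ := ha η _ _ sq
    obtain ⟨l, hl⟩ := exists_hom_of_mem hs hR
      (fun Z f hf => sq.lift ((AlgSp.pyon S).map f ≫ ζ) ((AlgSp.pyon S).map f) (by
        rw [Category.assoc]; exact h f hf))
      (fun Z Z' f g hf => by apply sq.hom_ext <;> simp)
    have h₁ : l ≫ pullback.fst a η = ζ := hom_ext_of_separated
      (((isSheaf_iff_isSheaf_of_type _ _).1 ((AlgSp.yon S).obj V).property).isSeparated) hR fun Z f hf => by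
        rw [← Category.assoc, hl f hf, sq.lift_fst]
    have h₂ : l ≫ pullback.snd a η = 𝟙 _ := hom_ext_of_separated
      (((isSheaf_iff_isSheaf_of_type _ _).1 ((AlgSp.yon S).obj T).property).isSeparated) hR fun Z f hf => by
        rw [← Category.assoc, hl f hf, sq.lift_snd, Category.comp_id]
    rw [← h₁, Category.assoc, sq.w, reassoc_of% h₂]
  intro T R hR x t₁ t₂ h₁ h₂
  obtain ⟨R', hR'e, -, hlift⟩ := exists_etale_lifts ha (uliftYonedaEquiv.{u + 1}.symm t₁)
  refine uliftYonedaEquiv.{u + 1}.symm.injective (hom_ext_of_separated hFe hR'e fun Z f hf => ?_)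
  obtain ⟨ζ, hζ⟩ := hlift f hf
  rw [← hζ]
  refine key ((AlgSp.J S).pullback_stable f hR) ζ _ fun Z' g hg => ?_
  rw [hζ, ← Functor.map_comp_assoc, ← Functor.map_comp_assoc]
  apply uliftYonedaEquiv.{u + 1}.injective
  refine (uliftYonedaEquiv_naturality.{u + 1} _ (g ≫ f).op).symm.trans (Eq.trans ?_ (uliftYonedaEquiv_naturality.{u + 1} _ (g ≫ f).op))
  rw [Equiv.apply_symm_apply, Equiv.apply_symm_apply, h₁ _ hg, h₂ _ hg]

/-- Affine points lift after an affine fppf cover along an epimorphism of sheaves. -/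
theorem exists_affine_lift {X Y : AlgSp.Sp S} (g : X ⟶ Y) (hg : Sheaf.IsLocallySurjective g) {T : Over S}
    [IsAffine T.left] (ξ : (AlgSp.yon S).obj T ⟶ Y) :
    ∃ (Z : Over S) (c : Z ⟶ T) (ζ : (AlgSp.yon S).obj Z ⟶ X), IsAffine Z.left ∧ Flat c.left ∧
      LocallyOfFinitePresentation c.left ∧ Surjective c.left ∧ ζ ≫ g = (AlgSp.yon S).map c ≫ ξ := by
  choose W c hcf hcp hc t ht using AlgSpLib.exists_fppf_lift g hg ξ
  choose w hw using hc
  choose O hO hwO using fun x => show ∃ O : (W x).left.Opens, IsAffineOpen O ∧ w x ∈ O from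
    let ⟨O, hO, h, _⟩ := exists_isAffineOpen_mem_and_subset (x := w x) (U := ⊤) trivial
    ⟨O, hO, h⟩
  obtain ⟨σ, hσ⟩ := CompactSpace.isCompact_univ.elim_finite_subcover (fun x => (c x).left '' (O x : Set _))
    (fun x => have := hcf x; have := hcp x; (c x).left.isOpenMap _ (O x).isOpen)
    (fun x _ => Set.mem_iUnion.2 ⟨x, w x, hwO x, hw x⟩)
  let W' : σ → Over S := fun i => Over.mk ((O i.1).ι ≫ (W i.1).hom)
  let j : ∀ i, W' i ⟶ W i.1 := fun i => Over.homMk (O i.1).ι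
  let Z := AlgSpLib.sigmaOver W'
  obtain ⟨ζ, hζ, -⟩ := AlgSpLib.existsUnique_desc_sigma W' fun i => (AlgSp.yon S).map (j i) ≫ t i.1
  let cz : Z ⟶ T := Over.homMk (Sigma.desc fun i => (j i ≫ c i.1).left) (Sigma.hom_ext _ _ fun i => by
    simp [Z, AlgSpLib.sigmaOver])
  have e : ∀ i, AlgSpLib.sigmaOverι W' i ≫ cz = j i ≫ c i.1 := fun i => Over.OverMorphism.ext (Sigma.ι_desc _ _)
  have : ∀ i, IsAffine (W' i).left := fun i => hO i.1
  refine ⟨Z, cz, ζ, inferInstanceAs (IsAffine (∐ fun i => (W' i).left)),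
    IsZariskiLocalAtSource.sigmaDesc fun i => ?_, IsZariskiLocalAtSource.sigmaDesc fun i => ?_, ⟨fun x => ?_⟩, ?_⟩
  · have := hcf i.1
    exact inferInstanceAs (Flat ((O i.1).ι ≫ (c i.1).left))
  · have := hcp i.1
    exact inferInstanceAs (LocallyOfFinitePresentation ((O i.1).ι ≫ (c i.1).left))
  · obtain ⟨i, hi, v, hv, rfl⟩ := Set.mem_iUnion₂.1 (hσ (Set.mem_univ x))
    refine ⟨(AlgSpLib.sigmaOverι W' ⟨i, hi⟩).left ⟨v, hv⟩, ?_⟩
    rw [← Scheme.Hom.comp_apply, ← Over.comp_left, e]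
    rfl
  · refine (AlgSpLib.existsUnique_desc_sigma W' fun i =>
      (AlgSp.yon S).map (AlgSpLib.sigmaOverι W' i ≫ cz) ≫ ξ).unique (fun i => ?_) fun i => ?_
    · rw [← Category.assoc, hζ i, Category.assoc, ht, ← Category.assoc, ← Functor.map_comp, e]
    · rw [← Category.assoc, ← Functor.map_comp]

include ha in
/-- An etale sheaf with a smooth surjective cover by a scheme is an algebraic space. -/
theorem isAlgSpaceP_of_etale_sheaf (hF : Presheaf.IsSheaf (QuotSh.J Scheme.etalePrecoverage S) F) :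
    AlgSp.IsAlgSpaceP F := by
  let F' : AlgSp.Sp S := ⟨(AlgSp.J S).sheafify F, (AlgSp.J S).sheafify_isSheaf F⟩
  let η : F ⟶ F'.obj := (AlgSp.J S).toSheafify F
  have hsep := separated_fppf ha hF
  have hinj : ∀ T, Function.Injective (η.app T) := fun T x y h =>
    (hsep _ (Presheaf.equalizerSieve_mem (AlgSp.J S) η x y h)).ext fun _ f hf => by exact hf
  have hmono : Mono η := (NatTrans.mono_iff_mono_app η).2 fun T => (mono_iff_injective _).2 (hinj T)
  let p : (AlgSp.yon S).obj V ⟶ F' := ObjectProperty.homMk (a ≫ η)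
  have hls : Presheaf.IsLocallySurjective (AlgSp.J S) a := ⟨fun {T} s => by
    obtain ⟨R, -, hR, hlift⟩ := exists_etale_lifts ha (uliftYonedaEquiv.{u + 1}.symm s)
    refine (AlgSp.J S).superset_covering (fun Z f hf => ?_) hR
    obtain ⟨ζ, hζ⟩ := hlift f hf
    refine ⟨uliftYonedaEquiv.{u + 1} ζ, ?_⟩
    rw [← uliftYonedaEquiv_comp, hζ]
    refine (uliftYonedaEquiv_naturality.{u + 1} _ f.op).symm.trans ?_
    rw [Equiv.apply_symm_apply]⟩
  have hps : Sheaf.IsLocallySurjective p := by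
    show Presheaf.IsLocallySurjective (AlgSp.J S) (a ≫ η)
    infer_instance
  have pull : ∀ {Z : Over S} (ζ : (AlgSp.yon S).obj Z ⟶ (AlgSp.yon S).obj V),
      ∃ (Q : AlgSp.Sp S) (fst : Q ⟶ (AlgSp.yon S).obj V) (snd : Q ⟶ (AlgSp.yon S).obj Z),
        IsPullback fst snd p (ζ ≫ p) ∧ AlgSp.IsAlgSpace Q ∧ AlgSp.IsSurjectiveMor snd ∧
          AlgSp.LocP @Smooth snd := by
    intro Z ζ
    have sq := IsPullback.of_hasPullback a (ζ.hom ≫ a)
    obtain ⟨hs, hA, h₁, h₂⟩ := ha _ _ _ sq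
    refine ⟨⟨_, hs⟩, ObjectProperty.homMk (pullback.fst _ _), ObjectProperty.homMk (pullback.snd _ _),
      IsPullback.of_map_of_faithful (sheafToPresheaf (AlgSp.J S) (Type (u + 1))) ?_, hA, h₁, h₂⟩
    show IsPullback (pullback.fst a (ζ.hom ≫ a)) (pullback.snd a (ζ.hom ≫ a)) (a ≫ η) (ζ.hom ≫ a ≫ η)
    have cond : ∀ s : PullbackCone (a ≫ η) (ζ.hom ≫ a ≫ η), s.fst ≫ a = s.snd ≫ ζ.hom ≫ a := fun s =>
      (cancel_mono η).1 (by simp only [Category.assoc]; exact s.condition)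
    exact ⟨⟨by rw [sq.w_assoc, Category.assoc]⟩, ⟨PullbackCone.IsLimit.mk _
      (fun s => sq.lift s.fst s.snd (cond s)) (fun s => sq.lift_fst _ _ _) (fun s => sq.lift_snd _ _ _)
      (fun s m h₁ h₂ => sq.hom_ext (by rw [sq.lift_fst, h₁]) (by rw [sq.lift_snd, h₂]))⟩⟩
  have hd : AlgSp.Representable (Limits.diag F') := by
    refine (AlgSpLib.repWith_of_fppf_local (Limits.diag F') fun T hT ξ => ?_).1.1
    obtain ⟨V₁, c₁, ζ₁, hV₁, hf₁, hp₁, hs₁, e₁⟩ := exists_affine_lift p hps (ξ ≫ prod.fst)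
    obtain ⟨V', c₂, ζ₂, hV, hf₂, hp₂, hs₂, e₂⟩ := exists_affine_lift p hps ((AlgSp.yon S).map c₁ ≫ ξ ≫ prod.snd)
    let x₁ := (AlgSp.yon S).map c₂ ≫ ζ₁
    let c := c₂ ≫ c₁
    have hξ : (AlgSp.yon S).map c ≫ ξ = prod.lift (x₁ ≫ p) (ζ₂ ≫ p) := by
      apply Limits.prod.hom_ext
      · rw [prod.lift_fst]
        simp only [c, x₁, Functor.map_comp, Category.assoc, e₁]
      · rw [prod.lift_snd]
        simp only [c, Functor.map_comp, Category.assoc, e₂]
    obtain ⟨Q, q₁, q₂, sqQ, hQ, -, hQl⟩ := pull ζ₂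
    have hX := AlgSp.IsAlgSpace.yon_obj V
    have hXV := AlgSpLib.isAlgSpace_prod hX (AlgSp.IsAlgSpace.yon_obj V')
    let m : Q ⟶ (AlgSp.yon S).obj V ⨯ (AlgSp.yon S).obj V' := prod.lift q₁ q₂
    have m1 : m ≫ prod.fst = q₁ := prod.lift_fst _ _
    have m2 : m ≫ prod.snd = q₂ := prod.lift_snd _ _
    have : Mono m := ⟨fun u v e => sqQ.hom_ext (by rw [← m1, reassoc_of% e]) (by rw [← m2, reassoc_of% e])⟩
    have hml : AlgSp.LocP @LocallyOfFiniteType m := by
      refine AlgSpLib.locP_of_comp' (Q := ⊤) AlgSpLib.etLocal_lft hQ hXV (AlgSp.IsAlgSpace.yon_obj V')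
        (fun A B C g₁ g₂ h _ => by
          have : LocallyOfFiniteType (g₁ ≫ g₂) := h
          exact locallyOfFiniteType_of_comp g₁ g₂) (g := prod.snd) ?_ (AlgSpLib.locP_top _)
      rw [m2]
      exact AlgSpLib.locP_mono (fun _ _ g (_ : Smooth g) => (inferInstance : LocallyOfFiniteType g)) hQl
    obtain ⟨hmr, -, hmq⟩ := AlgSpLib.mono_lft_package hQ hXV hml
    have hmq' := (AlgSpLib.repWith_iff_locP AlgSpLib.etLocal_lqf hQ hXV hmr).2 hmq
    let γ : (AlgSp.yon S).obj V' ⟶ (AlgSp.yon S).obj V ⨯ (AlgSp.yon S).obj V' := prod.lift x₁ (𝟙 _)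
    have sW := hmr.isPullback γ
    let w := hmr.snd γ
    have h2 := hmq'.property _ _ _ sW
    have hw : Mono w.left := (AlgSpLib.repWith_monomorphisms_of_mono hmr).property _ _ _ sW
    have k1 : hmr.fst γ ≫ q₁ = (AlgSp.yon S).map w ≫ x₁ := by
      rw [← m1, reassoc_of% sW.w, prod.lift_fst]
    have k2 : hmr.fst γ ≫ q₂ = (AlgSp.yon S).map w := by
      rw [← m2, reassoc_of% sW.w, prod.lift_snd, Category.comp_id]
    have key : (AlgSp.yon S).map w ≫ x₁ ≫ p = (AlgSp.yon S).map w ≫ ζ₂ ≫ p := by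
      rw [← reassoc_of% k1, sqQ.w, reassoc_of% k2]
    refine ⟨V', c, hmr.pullback γ, w, (AlgSp.yon S).map w ≫ x₁ ≫ p, hV, (inferInstance : Flat (c₂.left ≫ c₁.left)),
      (inferInstance : LocallyOfFinitePresentation (c₂.left ≫ c₁.left)),
      (inferInstance : Surjective (c₂.left ≫ c₁.left)), inferInstance, h2.1, h2.2, ?_⟩
    rw [hξ]
    refine AlgSpLib.isPullback_of_yon ?_ fun Z u v huv => ?_
    · apply Limits.prod.hom_ext
      · simp only [Category.assoc]
        rw [prod.lift_fst, prod.lift_fst, Category.comp_id]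
      · simp only [Category.assoc]
        rw [prod.lift_snd, prod.lift_snd, Category.comp_id, key]
    · have h1 : u = v ≫ x₁ ≫ p := by
        have h := congrArg (· ≫ prod.fst) huv
        simp only [Category.assoc] at h
        rwa [prod.lift_fst, prod.lift_fst, Category.comp_id] at h
      have h3 : u = v ≫ ζ₂ ≫ p := by
        have h := congrArg (· ≫ prod.snd) huv
        simp only [Category.assoc] at h
        rwa [prod.lift_snd, prod.lift_snd, Category.comp_id] at h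
      let y := sqQ.lift (v ≫ x₁) v (by rw [Category.assoc, ← h1, ← h3])
      obtain ⟨l, hl⟩ : ∃ l, l ≫ (AlgSp.yon S).map w = v := ⟨sW.lift y v (by
        apply Limits.prod.hom_ext
        · rw [Category.assoc, Category.assoc, m1, sqQ.lift_fst, prod.lift_fst]
        · rw [Category.assoc, Category.assoc, m2, sqQ.lift_snd, prod.lift_snd, Category.comp_id]), sW.lift_snd _ _ _⟩
      have : Mono w := (Over.forget S).mono_of_mono_map (f := w) hw
      refine ⟨l, ⟨?_, hl⟩, fun l' hl' => (cancel_mono ((AlgSp.yon S).map w)).1 (hl'.2.trans hl.symm)⟩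
      rw [← Category.assoc, hl, ← h1]
  have hr : AlgSp.Representable p := Functor.relativelyRepresentable.of_diag hd p
  have key : ∀ (T : Over S) (ξ : (AlgSp.yon S).obj T ⟶ F'), Smooth (hr.snd ξ).left ∧ Surjective (hr.snd ξ).left := by
    intro T ξ
    choose W c hcf hcp hc t ht using AlgSpLib.exists_fppf_lift p hps ξ
    obtain ⟨ζ, hζ, -⟩ := AlgSpLib.existsUnique_desc_sigma W t
    let Z := AlgSpLib.sigmaOver W
    let cz : Z ⟶ T := Over.homMk (Sigma.desc fun i => (c i).left) (Sigma.hom_ext _ _ fun i => by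
      simp [Z, AlgSpLib.sigmaOver])
    have e : ∀ i, AlgSpLib.sigmaOverι W i ≫ cz = c i := fun i => Over.OverMorphism.ext (Sigma.ι_desc _ _)
    have : Flat cz.left := IsZariskiLocalAtSource.sigmaDesc hcf
    have : LocallyOfFinitePresentation cz.left := IsZariskiLocalAtSource.sigmaDesc hcp
    have : Surjective cz.left := ⟨fun x => by
      obtain ⟨w, hw⟩ := hc x
      exact ⟨(AlgSpLib.sigmaOverι W x).left w, by rw [← Scheme.Hom.comp_apply, ← Over.comp_left, e, hw]⟩⟩
    have hz : ζ ≫ p = (AlgSp.yon S).map cz ≫ ξ := (AlgSpLib.existsUnique_desc_sigma W fun i =>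
      (AlgSp.yon S).map (c i) ≫ ξ).unique (fun i => by rw [← Category.assoc, hζ, ht])
        fun i => by rw [← Category.assoc, ← Functor.map_comp, e]
    obtain ⟨Q, q₁, q₂, sqQ, hQ, hQs, hQl⟩ := pull ζ
    let d := hr.snd ξ
    have sq₂ := (IsPullback.of_hasPullback ((AlgSp.yon S).map d) ((AlgSp.yon S).map cz)).paste_horiz
      (hr.isPullback ξ)
    rw [← hz] at sq₂
    let σ := sqQ.isoIsPullback _ _ sq₂
    have eσ : σ.hom ≫ pullback.snd ((AlgSp.yon S).map d) ((AlgSp.yon S).map cz) = q₂ :=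
      sqQ.isoIsPullback_hom_snd _ _ sq₂
    have hP : AlgSp.IsAlgSpace (pullback ((AlgSp.yon S).map d) ((AlgSp.yon S).map cz)) := hQ.of_iso σ
    have hsm : AlgSp.LocP @Smooth (pullback.snd ((AlgSp.yon S).map d) ((AlgSp.yon S).map cz)) := by
      rw [show pullback.snd ((AlgSp.yon S).map d) ((AlgSp.yon S).map cz) = σ.inv ≫ q₂ by
        rw [← eσ, Iso.inv_hom_id_assoc]]
      exact AlgSpLib.locP_comp AlgSpLib.etLocal_smooth hP hQ (AlgSp.IsAlgSpace.yon_obj Z)
        (AlgSpLib.locP_of_repWith AlgSpLib.etLocal_smooth hP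
          (AlgSpLib.RepWith.mono (fun _ _ g (_ : Etale g) => (inferInstance : Smooth g))
            (AlgSpLib.repWith_of_isIso @Etale σ.inv))) hQl
    refine ⟨AlgSp.locP_yon_map (Stk19.schDescent_locP AlgSpLib.etLocal_smooth
      (V := ⟨_, AlgSp.IsAlgSpace.yon_obj _⟩) ((AlgSp.yon S).map d) cz inferInstance inferInstance inferInstance hsm),
      (AlgSpLib.surjective_map_yon_map_iff d).1 fun z => ?_⟩
    obtain ⟨z', rfl⟩ := (AlgSpLib.surjective_map_yon_map_iff cz).2 ‹Surjective cz.left› z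
    obtain ⟨q, rfl⟩ := hQs z'
    exact ⟨AlgSp.Points.map (σ.hom ≫ pullback.fst _ _) q, by
      rw [← AlgSp.Points.map_comp, ← AlgSp.Points.map_comp, Category.assoc, pullback.condition, reassoc_of% eσ]⟩
  have hp : AlgSp.RepBySpWith (AlgSp.IsSurjectiveMor ⊓ AlgSp.LocP @Smooth) p.hom := by
    refine (AlgSp.repBySpWith_hom_iff _ p).2 fun T ξ Q fst snd sq => ?_
    let σ := (hr.isPullback ξ).isoIsPullback _ _ sq
    have eσ : σ.inv ≫ (AlgSp.yon S).map (hr.snd ξ) = snd := (hr.isPullback ξ).isoIsPullback_inv_snd _ _ sq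
    have hQ := (AlgSp.IsAlgSpace.yon_obj _).of_iso σ
    have := (key T ξ).1
    rw [← eσ]
    refine ⟨hQ, fun z => ?_, ?_⟩
    · obtain ⟨w, rfl⟩ := (AlgSpLib.surjective_map_yon_map_iff _).2 (key T ξ).2 z
      exact ⟨AlgSp.Points.map σ.hom w, by rw [← AlgSp.Points.map_comp, Iso.hom_inv_id_assoc]⟩
    · exact AlgSpLib.locP_comp AlgSpLib.etLocal_smooth hQ (AlgSp.IsAlgSpace.yon_obj _) (AlgSp.IsAlgSpace.yon_obj T)
        (AlgSpLib.locP_of_repWith AlgSpLib.etLocal_smooth hQ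
          (AlgSpLib.RepWith.mono (fun _ _ g (_ : Etale g) => (inferInstance : Smooth g))
            (AlgSpLib.repWith_of_isIso @Etale σ.inv)))
        (AlgSpLib.locP_of_repWith AlgSpLib.etLocal_smooth (AlgSp.IsAlgSpace.yon_obj _)
          ((AlgSp.repWith_yon_map_iff @Smooth _).2 this))
  have hF' := isAlgSpace_of_smooth_cover_yon p hp
  -- the unit is surjective
  have hsurj : ∀ T, Function.Surjective (η.app T) := by
    intro T z
    let ξ : (AlgSp.yon S).obj T.unop ⟶ F' := ObjectProperty.homMk (uliftYonedaEquiv.{u + 1}.symm z)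
    have := (key T.unop ξ).1
    let c := hr.snd ξ
    choose x hx using (key T.unop ξ).2.surj
    choose T' g s hg hgs h hh using fun t => FlatMorSmoothSect.exists_section_etale_locally c.left (x t)
    let W' : T.unop.left → Over S := fun t => Over.mk (g t ≫ T.unop.hom)
    let cs : ∀ t, W' t ⟶ T.unop := fun t => Over.homMk (g t)
    have hcov : ∀ z, ∃ t, z ∈ Set.range (cs t).left := fun z => ⟨z, s z, (hgs z).trans (hx z)⟩
    have hRe := ofArrows_mem_etale cs hg hcov
    have ex : ∀ ⦃Z : Over S⦄ (f : Z ⟶ T.unop), Sieve.ofArrows W' cs f →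
        ∃ l : (AlgSp.pyon S).obj Z ⟶ F, l ≫ η = (AlgSp.pyon S).map f ≫ ξ.hom := by
      intro Z f hf
      obtain ⟨_, d, _, hi, rfl⟩ := hf
      obtain ⟨t⟩ := hi
      let k : W' t ⟶ hr.pullback ξ := Over.homMk (h t) (by
        show h t ≫ (hr.pullback ξ).hom = g t ≫ T.unop.hom
        rw [← hh t, Category.assoc, Over.w c])
      have hk : k ≫ c = cs t := Over.OverMorphism.ext (hh t)
      refine ⟨((AlgSp.yon S).map (d ≫ k) ≫ hr.fst ξ).hom ≫ a, ?_⟩
      have e : ((AlgSp.yon S).map (d ≫ k) ≫ hr.fst ξ) ≫ p = (AlgSp.yon S).map (d ≫ cs t) ≫ ξ := by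
        rw [Category.assoc, hr.w ξ, ← Functor.map_comp_assoc, Category.assoc, hk]
      exact (Category.assoc _ _ _).trans (congrArg (fun m => m.hom) e)
    choose l hl using ex
    obtain ⟨L, hL⟩ := exists_hom_of_mem hF hRe l fun Z Z' f g hf => (cancel_mono η).1 (by
      rw [hl, Category.assoc, hl, ← Functor.map_comp_assoc])
    refine ⟨uliftYonedaEquiv.{u + 1} L, ?_⟩
    have hRf : Sieve.ofArrows W' cs ∈ AlgSp.J S T.unop := by
      have : ∀ t, Flat (cs t).left := fun t => have := hg t; (inferInstance : Flat (g t))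
      have : ∀ t, LocallyOfFinitePresentation (cs t).left := fun t =>
        have := hg t; (inferInstance : LocallyOfFinitePresentation (g t))
      exact AlgSpLib.ofArrows_mem_J cs hcov
    have : L ≫ η = uliftYonedaEquiv.{u + 1}.symm z := hom_ext_of_separated
      (((isSheaf_iff_isSheaf_of_type _ _).1 F'.property).isSeparated) hRf fun Z f hf => by
        rw [← Category.assoc, hL f hf]
        exact hl f hf
    refine (uliftYonedaEquiv_comp.{u + 1} L η).symm.trans ?_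
    rw [this, Equiv.apply_symm_apply]
  have : ∀ T, IsIso (η.app T) := fun T => (isIso_iff_bijective _).2 ⟨hinj T, hsurj T⟩
  have : IsIso η := NatIso.isIso_of_isIso_app η
  exact ((AlgSp.isAlgSpaceP_obj_iff F').2 hF').of_iso (asIso η).symm

omit ha in
/-- An etale sheaf with a smooth surjective cover by an algebraic space is an algebraic space. -/
theorem isAlgSpaceP_of_etale_sheaf_space (hF : Presheaf.IsSheaf (QuotSh.J Scheme.etalePrecoverage S) F)
    (X : AlgSp.Space S) (b : X.obj.obj ⟶ F)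
    (hb : AlgSp.RepBySpWith (AlgSp.IsSurjectiveMor ⊓ AlgSp.LocP @Smooth) b) : AlgSp.IsAlgSpaceP F := by
  obtain ⟨U, e, hee, hes⟩ := X.property.atlas
  refine isAlgSpaceP_of_etale_sheaf (V := U) (a := e.hom ≫ b) (fun T ξ P fst snd sq => ?_) hF
  have sqP := IsPullback.of_hasPullback b ξ
  obtain ⟨hs, hA, h₁, h₂⟩ := hb ξ _ _ sqP
  let y : P ⟶ pullback b ξ := sqP.lift (fst ≫ e.hom) snd (by rw [Category.assoc, sq.w])
  have sqy : IsPullback fst y e.hom (pullback.fst b ξ) :=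
    IsPullback.of_bot (by rw [sqP.lift_snd]; exact sq) (sqP.lift_fst _ _ _).symm sqP
  have hP : Presheaf.IsSheaf (AlgSp.J S) P := AlgSp.isSheaf_of_isPullback (G := X.obj) (F := (AlgSp.yon S).obj U)
    (H := ⟨_, hs⟩) sqy
  let Y : AlgSp.Sp S := ⟨pullback b ξ, hs⟩
  have sqy' : IsPullback (ObjectProperty.homMk fst : (⟨P, hP⟩ : AlgSp.Sp S) ⟶ (AlgSp.yon S).obj U)
      (ObjectProperty.homMk y : (⟨P, hP⟩ : AlgSp.Sp S) ⟶ Y) e (ObjectProperty.homMk (pullback.fst b ξ)) :=
    IsPullback.of_map_of_faithful (sheafToPresheaf (AlgSp.J S) (Type (u + 1))) sqy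
  have hF'' := AlgSpLib.isAlgSpace_of_isPullback X.property.diag (AlgSp.IsAlgSpace.yon_obj U) hA sqy'
  have ey : (ObjectProperty.homMk y : (⟨P, hP⟩ : AlgSp.Sp S) ⟶ Y) ≫
      (ObjectProperty.homMk (pullback.snd b ξ) : Y ⟶ (AlgSp.yon S).obj T) = ObjectProperty.homMk snd :=
    ObjectProperty.hom_ext _ (sqP.lift_snd _ _ _)
  refine ⟨hP, hF'', ?_, ?_⟩
  · intro t
    obtain ⟨z, rfl⟩ := h₁ t
    obtain ⟨w, rfl⟩ := AlgSpLib.surjective_map_of_repWith (AlgSpLib.RepWith.baseChange sqy' hes) z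
    exact ⟨w, by rw [← AlgSp.Points.map_comp, ey]⟩
  · rw [← ey]
    exact AlgSpLib.locP_comp AlgSpLib.etLocal_smooth hF'' hA (AlgSp.IsAlgSpace.yon_obj T)
      (AlgSpLib.locP_of_repWith AlgSpLib.etLocal_smooth hF''
        (AlgSpLib.RepWith.mono (fun _ _ g (_ : Etale g) => (inferInstance : Smooth g))
          (AlgSpLib.RepWith.baseChange sqy' hee))) h₂

end Groth.Agent.Stk19b.Boot
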