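import Groth.Agent.Stk19b.Boot.Stack
import Groth.Agent.Stk19b.RepCrit
import Groth.Agent.Stk19.AlgSt.FpAlg

/-! A stack with a smooth surjective cover by an algebraic space is algebraic. -/

set_option autoImplicit false
set_option linter.style.haveILetI false
set_option backward.isDefEq.respectTransparency false
set_option backward.isDefEq.respectTransparency.types false

universe u

open CategoryTheory CategoryTheory.Limits AlgebraicGeometry Opposite FibCat Groth.Agent.Stk19

namespace Groth.Agent.Stk19b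

variable {S : Scheme.{u}} {𝒰 𝒲 𝒳 : AlgSt.Cat S}

/-- A chart of a stack is representable if it is so after a smooth surjection. -/
theorem repByAlgSp1_of_smooth (h𝒳 : Stk.IsStack (AlgSp.J S) 𝒳) {U : Over S} (c : 𝒲 ⥤ᵇ overCat U)
    (hc : AlgSt.RepByAlgSpWith (AlgSp.IsSurjectiveMor ⊓ AlgSp.LocP @Smooth) c) (x : overCat U ⥤ᵇ 𝒳)
    (h : AlgSt.RepByAlgSp1 (BasedFunctor.comp c x)) : AlgSt.RepByAlgSp1 x := by
  intro V y
  haveI := faithful_overCat x
  obtain ⟨T, e, he⟩ := repByAlgSp_of_equiv' (isEquivOver_fpCompFactor y c x) (h V y)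
  exact repByAlgSp_of_smooth_cover (isStack_fp _ _ _ (isStack_overCat V) (isStack_overCat U) (isStack_isPrestack h𝒳))
    (setoid_fp _ _ (setoid_of_repByAlgSp (repByAlgSp_overCat V)) (isFibGrpd_overCat U) h𝒳.1) T
    (BasedFunctor.comp e (fpFst (fpSnd y x) c)) (with_equiv_comp he (repByAlgSpWith_fpFst _ hc))

/-- A stack with a smooth surjective representable cover by an algebraic space is algebraic. -/
theorem isAlgStack_of_smooth_cover (h𝒳 : Stk.IsStack (AlgSp.J S) 𝒳) (hU : AlgSt.RepByAlgSp 𝒰) (u : 𝒰 ⥤ᵇ 𝒳)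
    (hsm : AlgSt.RepByAlgSpWith (AlgSp.LocP @Smooth) u)
    (hsurj : AlgSt.RepByAlgSpWith AlgSp.IsSurjectiveMor u) : AlgSt.IsAlgStack Scheme.fppfPrecoverage 𝒳 := by
  have hu := repByAlgSpWith_and (respSrc_of_baseChange (pbStable_locP AlgSpLib.etLocal_smooth)) hsurj hsm
  have hu1 := repByAlgSp1_of_with hsm
  have hUg := fibGrpd_of_repByAlgSp hU
  refine ⟨h𝒳, (repByAlgSp1_diag_iff h𝒳.1).2 fun U x => ?_, ?_⟩
  · refine repByAlgSp1_of_smooth h𝒳 (fpFst x u) (repByAlgSpWith_fpFst x hu) x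
      (repByAlgSp1_of_iso (fpIso x u).symm ?_)
    refine repByAlgSp1_comp (fibGrpd_fp (isFibGrpd_overCat U) hUg h𝒳.1 x u) hUg (fun V y => ?_) hu1
    exact repByAlgSp_fp (repByAlgSp_overCat V) (hu1 U x) hU
  · obtain ⟨W, x, h₁, h₂⟩ := (isDM_of_repByAlgSp hU).1.atlas
    exact ⟨W, BasedFunctor.comp x u,
      repByAlgSpWith_comp_desc (respSrc_locP AlgSpLib.etLocal_smooth) (atlasDescent_locP AlgSpLib.etLocal_smooth)
        (compStable_locP AlgSpLib.etLocal_smooth) (isFibGrpd_overCat W) hUg h₁ hsm,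
      repByAlgSpWith_comp_desc respSrc_surjective atlasDescent_surjective compStable_surjective
        (isFibGrpd_overCat W) hUg h₂ hsurj⟩

end Groth.Agent.Stk19b
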