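import Groth.Agent.Stk19b.Boot.Corollaries
import Groth.Agent.Stk19.AlgSt.Sep
import Groth.Agent.AlgSpLib.FpqcBaseImm

/-! Immersions of algebraic stacks read over a flat cover of the target by an algebraic space. -/

set_option autoImplicit false
set_option linter.style.haveILetI false
set_option backward.isDefEq.respectTransparency false
set_option backward.isDefEq.respectTransparency.types false

universe u

open CategoryTheory CategoryTheory.Limits AlgebraicGeometry Opposite FibCat Groth.Agent.Stk19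

namespace Groth.Agent.Stk19b

variable {S : Scheme.{u}} {P : MorphismProperty (AlgSp.Sp S)}

theorem isLocalOnBase_fppf_of_fpqc (h : AlgSp.IsLocalOnBase (AlgSp.IsFpqcCover (S := S)) P) :
    AlgSp.IsLocalOnBase (AlgSp.IsFppfCover (S := S)) P :=
  fun _ _ Yi g hY hYi hc =>
    h Yi g hY hYi (AlgSpLib.isFpqcCover_of_isFppfCover (g := g) hY hYi hc)

variable {𝒳 𝒴 : AlgSt.Cat S} (h𝒳 : AlgSt.IsAlgStack Scheme.fppfPrecoverage 𝒳)
  (h𝒴 : AlgSt.IsAlgStack Scheme.fppfPrecoverage 𝒴) (f : 𝒳 ⥤ᵇ 𝒴) {W : AlgSp.Space S} {w : AlgSt.ofSp W.obj ⥤ᵇ 𝒴}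
  (hw₁ : AlgSt.RepByAlgSpWith (AlgSp.LocP @Flat) w)
  (hw₂ : AlgSt.RepByAlgSpWith (AlgSp.LocP @LocallyOfFinitePresentation) w)
  (hw₃ : AlgSt.RepByAlgSpWith AlgSp.IsSurjectiveMor w)

include h𝒳 h𝒴 hw₁ hw₂ hw₃

/-- A property local on the base is read over a flat cover of the target by an algebraic space. -/
theorem with_iff_of_cover (hR : RespSrc P) (hPb : PbStable P)
    (hP : AlgSp.IsLocalOnBase (AlgSp.IsFppfCover (S := S)) P) :
    AlgSt.RepByAlgSpWith P f ↔ ∃ (V : AlgSp.Space S) (a : V ⟶ W) (e : AlgSt.ofSp V.obj ⥤ᵇ fp w f),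
      IsEquivOver e ∧ Nonempty (BasedFunctor.comp e (fpFst w f) ≅ AlgSt.ofSpMap a.hom) ∧ P a.hom := by
  constructor
  · intro hf
    obtain ⟨V, a, e, he, ⟨i⟩⟩ := exists_rep_map h𝒳.isStack.1 h𝒴.isStack.1 (repByAlgSp1_of_with hf) W w
    exact ⟨V, a, e, he, ⟨i⟩, rep_prop hasAtlasCovers_fppf hR hP hf w he i⟩
  · rintro ⟨V, a, e, he, ⟨i⟩, ha⟩
    have hf := repByAlgSp1_of_cover h𝒳 h𝒴 f hw₁ hw₂ hw₃ ⟨V, e, he⟩
    refine with_of_cover hR (schDescent_of_local hP) hf hw₁ hw₂ hw₃ ?_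
    exact (repByAlgSpWith_iff_of_square (f' := AlgSt.ofSpMap a.hom) (f := fpFst w f) (a := e)
      (b := BasedFunctor.id _) he (isEquivOver_id _) i.symm).1 (repByAlgSpWith_ofSpMap hPb a.hom ha)

end Groth.Agent.Stk19b
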