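import Groth.Agent.Stk19b.Boot.Invariance
import Groth.Agent.AlgSpLib.Bootstrap
import Groth.Agent.AlgSpLib.YonCoprod
import Groth.Agent.Stk19.AlgSt.Local

/-! A sheaf with a smooth surjective cover by a scheme is an algebraic space. -/

set_option autoImplicit false
set_option linter.style.haveILetI false
set_option backward.isDefEq.respectTransparency false
set_option backward.isDefEq.respectTransparency.types false

universe v₁ u₁ u

open CategoryTheory CategoryTheory.Limits AlgebraicGeometry Opposite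

noncomputable section

namespace Groth.Agent.Stk19b.Boot

section cat

variable {D : Type u₁} [Category.{v₁} D] {R U F RV V Y : D} {a : U ⟶ F} {p q : R ⟶ U}

/-- The third side of a pair of arrows of a kernel pair with equal targets. -/
theorem exists_translation (sq : IsPullback p q a a) {k : RV ⟶ R} {qV : RV ⟶ V} {j : V ⟶ U}
    (sqV : IsPullback k qV q j) {r₁ r₂ : Y ⟶ RV} (sqY : IsPullback r₁ r₂ qV qV) :
    ∃ θ : Y ⟶ R, IsPullback r₁ θ (k ≫ p) p ∧ IsPullback r₂ θ (k ≫ p) q := by
  let θ : Y ⟶ R := sq.lift (r₁ ≫ k ≫ p) (r₂ ≫ k ≫ p) (by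
    simp only [Category.assoc, sq.w]
    rw [sqV.w_assoc, sqY.w_assoc])
  have h₁ : θ ≫ p = r₁ ≫ k ≫ p := sq.lift_fst _ _ _
  have h₂ : θ ≫ q = r₂ ≫ k ≫ p := sq.lift_snd _ _ _
  refine ⟨θ, ⟨⟨h₁.symm⟩, ⟨PullbackCone.IsLimit.mk _
    (fun s => sqY.lift s.fst (sqV.lift (sq.lift (s.snd ≫ q) (s.fst ≫ k ≫ q) ?_) (s.fst ≫ qV)
      (by rw [sq.lift_snd, sqV.w, Category.assoc])) (by rw [sqV.lift_snd])) ?_ ?_ ?_⟩⟩,
    ⟨⟨h₂.symm⟩, ⟨PullbackCone.IsLimit.mk _
    (fun s => sqY.lift (sqV.lift (sq.lift (s.snd ≫ p) (s.fst ≫ k ≫ q) ?_) (s.fst ≫ qV)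
      (by rw [sq.lift_snd, sqV.w, Category.assoc])) s.fst (by rw [sqV.lift_snd])) ?_ ?_ ?_⟩⟩⟩
  · simp only [Category.assoc, ← sq.w]
    simpa using (s.condition_assoc a).symm
  · exact fun s => sqY.lift_fst _ _ _
  · intro s
    apply sq.hom_ext
    · rw [Category.assoc, h₁, sqY.lift_fst_assoc, s.condition]
    · rw [Category.assoc, h₂, sqY.lift_snd_assoc, sqV.lift_fst_assoc, sq.lift_fst]
  · intro s m hm₁ hm₂
    have e₁ : m ≫ θ ≫ p = s.snd ≫ p := by rw [reassoc_of% hm₂]
    apply sqY.hom_ext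
    · rw [sqY.lift_fst, hm₁]
    · rw [sqY.lift_snd]
      apply sqV.hom_ext
      · rw [sqV.lift_fst]
        apply sq.hom_ext
        · rw [sq.lift_fst, Category.assoc, Category.assoc, ← h₂, reassoc_of% hm₂]
        · rw [sq.lift_snd, Category.assoc, Category.assoc, sqV.w, ← sqY.w_assoc, reassoc_of% hm₁]
      · rw [sqV.lift_snd, Category.assoc, ← sqY.w, reassoc_of% hm₁]
  · have e := s.condition_assoc a
    simp only [Category.assoc, sq.w] at e ⊢
    exact e.symm
  · intro s
    exact sqY.lift_snd _ _ _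
  · intro s
    apply sq.hom_ext
    · rw [Category.assoc, h₁, sqY.lift_fst_assoc, sqV.lift_fst_assoc, sq.lift_fst]
    · rw [Category.assoc, h₂, sqY.lift_snd_assoc, s.condition]
  · intro s m hm₁ hm₂
    apply sqY.hom_ext
    · rw [sqY.lift_fst]
      apply sqV.hom_ext
      · rw [sqV.lift_fst]
        apply sq.hom_ext
        · rw [sq.lift_fst, Category.assoc, Category.assoc, ← h₁, reassoc_of% hm₂]
        · rw [sq.lift_snd, Category.assoc, Category.assoc, sqV.w, sqY.w_assoc, reassoc_of% hm₁]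
      · rw [sqV.lift_snd, Category.assoc, sqY.w, reassoc_of% hm₁]
    · rw [sqY.lift_snd, hm₁]

end cat

variable {S : Scheme.{u}}

theorem exists_preimage {P X Y Z : Scheme.{u}} {fst : P ⟶ X} {snd : P ⟶ Y} {f : X ⟶ Z} {g : Y ⟶ Z}
    (sq : IsPullback fst snd f g) (x : X) (y : Y) (h : f x = g y) : ∃ z, fst z = x ∧ snd z = y := by
  obtain ⟨z, h₁, h₂⟩ := Scheme.Pullback.exists_preimage_pullback x y h
  refine ⟨sq.isoPullback.inv z, ?_, ?_⟩
  · rw [← Scheme.Hom.comp_apply, sq.isoPullback_inv_fst, h₁]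
  · rw [← Scheme.Hom.comp_apply, sq.isoPullback_inv_snd, h₂]

/-- A point of a smooth cover lies on a scheme mapping to the cover whose composite to the target is étale. -/
theorem exists_etale_piece {R U : Over S} {F : AlgSp.Sp S} (a : (AlgSp.yon S).obj U ⟶ F) (p q : R ⟶ U)
    (sq : IsPullback ((AlgSp.yon S).map p) ((AlgSp.yon S).map q) a a) [Smooth p.left] [Smooth q.left]
    (u : U.left) :
    ∃ (Z : Over S) (π : Z ⟶ U), Etale (pullback.fst q.left π.left ≫ p.left) ∧
      u ∈ Set.range (pullback.fst q.left π.left ≫ p.left) := by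
  obtain ⟨δ, hδ⟩ := (AlgSp.yon S).map_surjective (sq.lift (𝟙 _) (𝟙 _) rfl)
  have hδp : δ ≫ p = 𝟙 U := (AlgSp.yon S).map_injective (by
    rw [Functor.map_comp, hδ, sq.lift_fst, CategoryTheory.Functor.map_id])
  have hδq : δ ≫ q = 𝟙 U := (AlgSp.yon S).map_injective (by
    rw [Functor.map_comp, hδ, sq.lift_snd, CategoryTheory.Functor.map_id])
  have hmono : ∀ {T : Scheme.{u}} (g h : T ⟶ R.left), g ≫ p.left = h ≫ p.left → g ≫ q.left = h ≫ q.left → g = h := by
    intro T g h e₁ e₂
    have eh : h ≫ R.hom = g ≫ R.hom := by rw [← Over.w p, ← reassoc_of% e₁]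
    let g' : Over.mk (g ≫ R.hom) ⟶ R := Over.homMk g
    let h' : Over.mk (g ≫ R.hom) ⟶ R := Over.homMk h eh
    refine congrArg CommaMorphism.left ((AlgSp.yon S).map_injective (sq.hom_ext ?_ ?_) : g' = h')
    · rw [← Functor.map_comp, ← Functor.map_comp]
      exact congrArg _ (Over.OverMorphism.ext e₁)
    · rw [← Functor.map_comp, ← Functor.map_comp]
      exact congrArg _ (Over.OverMorphism.ext e₂)
  obtain ⟨B, j, hj, y, hy, -⟩ := exists_affine_chart (O := (⊤ : U.left.Opens)) (x := u) trivial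
  let V : Over S := Over.mk (j ≫ U.hom)
  let jo : V ⟶ U := Over.homMk j
  let k : pullback q jo ⟶ R := pullback.fst q jo
  let qV : pullback q jo ⟶ V := pullback.snd q jo
  have sqV := IsPullback.of_hasPullback q jo
  have sqVs : IsPullback k.left qV.left q.left j := sqV.map (Over.forget S)
  have : IsOpenImmersion k.left := MorphismProperty.of_isPullback (P := @IsOpenImmersion) sqVs.flip hj
  have : Smooth qV.left := MorphismProperty.of_isPullback (P := @Smooth) sqVs ‹Smooth q.left›
  have : Smooth (k ≫ p).left := inferInstanceAs (Smooth (k.left ≫ p.left))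
  have : IsAffine V.left := inferInstanceAs (IsAffine (Spec B))
  have hw : (k ≫ p).left ≫ U.hom = qV.left ≫ V.hom := by rw [Over.w (k ≫ p), Over.w qV]
  have : FormallyUnramified (pullback.lift (k ≫ p).left qV.left hw) := by
    have : Mono (pullback.lift (k ≫ p).left qV.left hw) := ⟨fun {T} g h e => by
      have e₁ := congrArg (· ≫ pullback.fst _ _) e
      have e₂ := congrArg (· ≫ pullback.snd _ _) e
      simp only [Category.assoc, pullback.lift_fst, pullback.lift_snd] at e₁ e₂
      refine sqVs.hom_ext (hmono _ _ ?_ ?_) e₂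
      · simpa using e₁
      · rw [Category.assoc, Category.assoc, sqVs.w, reassoc_of% e₂]⟩
    infer_instance
  obtain ⟨x, hx₁, hx₂⟩ := exists_preimage sqVs (δ.left u) y (by
    rw [← Scheme.Hom.comp_apply, ← Over.comp_left, hδq]; exact hy.symm)
  obtain ⟨m, c, hc⟩ := exists_coord U.hom V.hom (k ≫ p).left qV.left hw x
  let g := coordHom (k ≫ p).left fun i => qV.left.appTop (c i)
  -- the étale locus is saturated
  have hsat : ∀ x₁ x₂, qV.left x₁ = qV.left x₂ → x₁ ∈ etLocus g → x₂ ∈ etLocus g := by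
    intro x₁ x₂ e h
    have sqY := IsPullback.of_hasPullback qV qV
    obtain ⟨θ, hθ₁, hθ₂⟩ := exists_translation sq (sqV.map (AlgSp.yon S)) (sqY.map (AlgSp.yon S))
    obtain ⟨θ, rfl⟩ := (AlgSp.yon S).map_surjective θ
    rw [← Functor.map_comp] at hθ₁ hθ₂
    have s₁ : IsPullback _ _ (k ≫ p).left _ := (IsPullback.of_map (AlgSp.yon S) ((AlgSp.yon S).map_injective (by
      simpa only [Functor.map_comp] using hθ₁.w)) hθ₁).map (Over.forget S)
    have s₂ : IsPullback _ _ (k ≫ p).left _ := (IsPullback.of_map (AlgSp.yon S) ((AlgSp.yon S).map_injective (by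
      simpa only [Functor.map_comp] using hθ₂.w)) hθ₂).map (Over.forget S)
    obtain ⟨z, hz₁, hz₂⟩ := exists_preimage (sqY.map (Over.forget S)) x₁ x₂ e
    have h' := mem_etLocus_of_image s₁ (𝟙 _) (fun i => qV.left.appTop (c i)) z
      (by rw [← hz₁] at h; exact h)
    rw [← hz₂]
    refine image_mem_etLocus s₂ (𝟙 _) (fun i => qV.left.appTop (c i)) z ?_
    convert! h' using 4 with i
    simp only [Category.id_comp, ← CommRingCat.comp_apply, ← Scheme.Hom.comp_appTop]
    exact congrArg (fun f => f.appTop (c i)) (congrArg CommaMorphism.left sqY.w).symm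
  let V₀ : V.left.Opens := ⟨qV.left '' (etLocus g : Set _), qV.left.isOpenMap _ (etLocus g).isOpen⟩
  let E := qV.left ⁻¹ᵁ V₀
  have hE : E = etLocus g := by
    ext z
    constructor
    · rintro ⟨z', hz', e⟩
      exact hsat z' z e hz'
    · intro h
      exact ⟨z, h, rfl⟩
  have : Etale (E.ι ≫ g) :=
    (show ∀ O', O' = etLocus g → Etale (O'.ι ≫ g) from fun O' h => h ▸ etale_etLocus_ι g) E hE
  -- a point at roots of unity in the image
  let gE := E.ι ≫ g
  let O : (𝔸(ULift.{u} (Fin m); U.left)).Opens := ⟨Set.range gE, gE.isOpenMap.isOpen_range⟩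
  have hxE : x ∈ E := hE ▸ hc
  obtain ⟨S', σ, hσ, cS, w, hw₁, hw₂⟩ := exists_etale_point U.hom O (g x) ⟨⟨x, hxE⟩, rfl⟩
  have hgo : g ≫ (𝔸(ULift.{u} (Fin m); U.left) ↘ U.left) = (k ≫ p).left := AffineSpace.homOfVector_over _ _
  have hu : (pullback.fst U.hom σ) w = u := by
    rw [hw₁, ← Scheme.Hom.comp_apply, hgo, Over.comp_left, Scheme.Hom.comp_apply, hx₁, ← Scheme.Hom.comp_apply,
      ← Over.comp_left, hδp]
    rfl
  let h := coordHom (pullback.fst U.hom σ) fun i => (pullback.snd U.hom σ).appTop (cS i)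
  let φ := V₀.ι ≫ coordHom V.hom c
  let ψ := coordHom σ cS
  let Z : Over S := Over.mk (pullback.fst φ ψ ≫ V₀.ι ≫ j ≫ U.hom)
  let π : Z ⟶ U := Over.homMk (pullback.fst φ ψ ≫ V₀.ι ≫ j) (by simp [Z])
  let sW : IsPullback (pullback.snd U.hom σ) h ψ (AffineSpace.map _ U.hom) :=
    isPullback_coordHom (IsPullback.of_hasPullback U.hom σ).flip cS
  have sqE := IsPullback.of_hasPullback gE h
  have hφ : (qV.left ∣_ V₀) ≫ φ = gE ≫ AffineSpace.map _ U.hom := by
    rw [show (qV.left ∣_ V₀) ≫ φ = ((qV.left ∣_ V₀) ≫ V₀.ι) ≫ coordHom V.hom c from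
      (Category.assoc _ _ _).symm, morphismRestrict_ι]
    simp only [gE, g, Category.assoc, coordHom_map, comp_coordHom, hw]
    rfl
  let l : pullback gE h ⟶ pullback φ ψ := pullback.lift (pullback.fst gE h ≫ (qV.left ∣_ V₀))
    (pullback.snd gE h ≫ pullback.snd U.hom σ) (by
      rw [Category.assoc, hφ, ← Category.assoc (pullback.fst gE h), pullback.condition, Category.assoc,
        ← sW.w, ← Category.assoc])
  have s₁ : IsPullback (pullback.fst gE h) l (qV.left ∣_ V₀) (pullback.fst φ ψ) := by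
    refine IsPullback.of_bot ?_ (pullback.lift_fst _ _ _).symm (IsPullback.of_hasPullback φ ψ)
    rw [pullback.lift_snd, hφ]
    exact sqE.paste_vert sW.flip
  have s₂ := (s₁.flip.paste_vert ((isPullback_morphismRestrict qV.left V₀).paste_vert sqVs.flip)).flip
  let X₀ : pullback gE h ≅ pullback q.left π.left := s₂.isoPullback
  have e₁ : X₀.hom ≫ pullback.fst q.left π.left ≫ p.left =
      pullback.snd gE h ≫ pullback.fst U.hom σ := by
    have ef : X₀.hom ≫ pullback.fst q.left π.left = pullback.fst gE h ≫ E.ι ≫ k.left :=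
      s₂.isoPullback_hom_fst
    rw [← Category.assoc, ef]
    have e : gE ≫ (𝔸(ULift.{u} (Fin m); U.left) ↘ U.left) = (E.ι ≫ k.left) ≫ p.left := by
      simp only [gE, Category.assoc, hgo, Over.comp_left]
    have eh : h ≫ (𝔸(ULift.{u} (Fin m); U.left) ↘ U.left) = pullback.fst U.hom σ := AffineSpace.homOfVector_over _ _
    rw [← eh, ← pullback.condition_assoc, e]
    simp only [Category.assoc]
  refine ⟨Z, π, ?_, ?_⟩
  · refine (MorphismProperty.cancel_left_of_respectsIso @Etale X₀.hom _).1 ?_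
    rw [e₁]
    have : Etale (pullback.snd gE h) := MorphismProperty.pullback_snd _ _ ‹Etale (E.ι ≫ g)›
    infer_instance
  · obtain ⟨e, he⟩ := hw₂
    obtain ⟨z, -, hz⟩ := Scheme.Pullback.exists_preimage_pullback e w he
    refine ⟨X₀.hom z, ?_⟩
    rw [← Scheme.Hom.comp_apply, e₁, Scheme.Hom.comp_apply, hz, hu]

/-- A scheme mapping to a smooth cover with composite to the target étale and surjective. -/
theorem exists_etale_multisection {R U : Over S} {F : AlgSp.Sp S} (a : (AlgSp.yon S).obj U ⟶ F) (p q : R ⟶ U)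
    (sq : IsPullback ((AlgSp.yon S).map p) ((AlgSp.yon S).map q) a a) [Smooth p.left] [Smooth q.left] :
    ∃ (Z : Over S) (π : Z ⟶ U), Etale (pullback.fst q.left π.left ≫ p.left) ∧
      Surjective (pullback.fst q.left π.left ≫ p.left) := by
  choose Z π hπ hu using exists_etale_piece a p q sq
  let Zt := AlgSpLib.sigmaOver Z
  let πt : Zt ⟶ U := Over.homMk (Sigma.desc fun u => (π u).left) (Sigma.hom_ext _ _ fun u => by
    simp [Zt, AlgSpLib.sigmaOver])
  have hι : ∀ u, Sigma.ι (fun v => (Z v).left) u ≫ πt.left = (π u).left := fun u => Sigma.ι_desc _ _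
  let i : ∀ u, pullback q.left (π u).left ⟶ pullback q.left πt.left := fun u =>
    pullback.map _ _ _ _ (𝟙 _) (Sigma.ι (fun v => (Z v).left) u) (𝟙 _) (by simp) (by simp [hι])
  have ei : ∀ u, i u ≫ pullback.fst q.left πt.left ≫ p.left = pullback.fst q.left (π u).left ≫ p.left :=
    fun u => by rw [← Category.assoc, pullback.lift_fst, Category.comp_id]
  refine ⟨Zt, πt, ?_, ⟨fun u => ?_⟩⟩
  · refine IsZariskiLocalAtSource.of_openCover (P := @Etale)
      (Scheme.Pullback.openCoverOfRight (sigmaOpenCover fun v => (Z v).left)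
        q.left πt.left) fun u => ?_
    rw [Scheme.Pullback.openCoverOfRight_f]
    rw [← Category.assoc, pullback.lift_fst, Category.comp_id]
    have := hπ u
    rw [← hι u] at this
    exact this
  · obtain ⟨z, hz⟩ := hu u
    exact ⟨i u z, by rw [← Scheme.Hom.comp_apply, ei]; exact hz⟩

end Groth.Agent.Stk19b.Boot
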