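import Groth.Agent.SmoothLib.EtalePolynomial
import Mathlib.RingTheory.Kaehler.TensorProduct
import Mathlib.RingTheory.Flat.FaithfullyFlat.Algebra
import Mathlib.Algebra.MvPolynomial.Funext
import Mathlib.RingTheory.RootsOfUnity.AlgebraicallyClosed
import Mathlib.RingTheory.Etale.StandardEtale

/-! Étale coordinates: existence from spanning differentials, invariance under base change. -/

set_option autoImplicit false
set_option linter.style.haveILetI false

universe u

open TensorProduct KaehlerDifferential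

namespace Groth.Agent.Stk19b.Boot

variable {A B : Type u} [CommRing A] [CommRing B] [Algebra A B]

/-- The differentials of `c` form a basis of the cotangent space at `q`. -/
def IsCoordAt (A : Type u) {B : Type u} [CommRing A] [CommRing B] [Algebra A B] (q : Ideal B) [q.IsPrime]
    {n : Type} (c : n → B) : Prop :=
  LinearIndependent q.ResidueField (fun i => (1 : q.ResidueField) ⊗ₜ[B] D A B (c i)) ∧
    Submodule.span q.ResidueField (Set.range fun i => (1 : q.ResidueField) ⊗ₜ[B] D A B (c i)) = ⊤

/-- The cotangent space read on the local ring. -/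
noncomputable def localEquiv (A : Type u) {B : Type u} [CommRing A] [CommRing B] [Algebra A B]
    (q : Ideal B) [q.IsPrime] :
    q.ResidueField ⊗[B] Ω[B⁄A] ≃ₗ[q.ResidueField]
      q.ResidueField ⊗[Localization.AtPrime q] Ω[Localization.AtPrime q⁄A] :=
  haveI : Algebra.FormallyEtale B (Localization.AtPrime q) := .of_isLocalization q.primeCompl
  (AlgebraTensorModule.cancelBaseChange B (Localization.AtPrime q) q.ResidueField q.ResidueField Ω[B⁄A]).symm ≪≫ₗ
    AlgebraTensorModule.congr (LinearEquiv.refl q.ResidueField q.ResidueField)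
      (tensorKaehlerEquivOfFormallyEtale A B (Localization.AtPrime q))

theorem localEquiv_D (q : Ideal B) [q.IsPrime] (b : B) :
    localEquiv A q (1 ⊗ₜ D A B b) =
      1 ⊗ₜ D A (Localization.AtPrime q) (algebraMap B (Localization.AtPrime q) b) := by
  simp [localEquiv]

theorem isEtaleAt_iff_isCoordAt [Algebra.EssFiniteType A B] (q : Ideal B) [q.IsPrime] [Algebra.IsSmoothAt A q]
    {n : Type} (c : n → B) :
    letI := (MvPolynomial.aeval c : MvPolynomial n A →ₐ[A] B).toRingHom.toAlgebra
    Algebra.IsEtaleAt (MvPolynomial n A) q ↔ IsCoordAt A q c := by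
  letI := (MvPolynomial.aeval c : MvPolynomial n A →ₐ[A] B).toRingHom.toAlgebra
  haveI : IsScalarTower A (MvPolynomial n A) B :=
    IsScalarTower.of_algebraMap_eq' (MvPolynomial.aeval c).comp_algebraMap.symm
  refine (SmoothLib.isEtaleAt_mvPolynomial_iff n q).trans ?_
  let T := Localization.AtPrime q
  haveI : Algebra.FormallySmooth A T := ‹Algebra.IsSmoothAt A q›
  haveI : Algebra.EssFiniteType A T := Algebra.EssFiniteType.comp A B T
  let w : n → Ω[T⁄A] := fun i => D A T (algebraMap B T (c i))
  have hX : (fun i => D A T (algebraMap B T (algebraMap (MvPolynomial n A) B (.X i)))) = w :=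
    funext fun i => congrArg (fun z => D A T (algebraMap B T z)) (MvPolynomial.aeval_X _ i)
  rw [hX]
  let e := localEquiv A q
  have hew : (fun i => (1 : q.ResidueField) ⊗ₜ[T] w i) = e ∘ fun i => (1 : q.ResidueField) ⊗ₜ[B] D A B (c i) :=
    funext fun i => (localEquiv_D q (c i)).symm
  have h1 : IsCoordAt A q c ↔ LinearIndependent q.ResidueField (fun i => (1 : q.ResidueField) ⊗ₜ[T] w i) ∧
      Submodule.span q.ResidueField (Set.range fun i => (1 : q.ResidueField) ⊗ₜ[T] w i) = ⊤ := by
    rw [hew, Set.range_comp]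
    refine and_congr (LinearMap.linearIndependent_iff e.toLinearMap e.ker).symm ?_
    rw [← LinearEquiv.coe_coe, Submodule.span_image, Submodule.map_eq_top_iff]
  rw [h1]
  constructor
  · rintro ⟨hli, hsp⟩
    let b := (Module.Basis.mk hli hsp.ge).baseChange q.ResidueField
    have hb : (fun i => (1 : q.ResidueField) ⊗ₜ[T] w i) = b := funext fun i => by simp [b, w]; rfl
    rw [hb]
    exact ⟨b.linearIndependent, b.span_eq⟩
  · rintro ⟨hli, hsp⟩
    refine ⟨?_, IsLocalRing.span_eq_top_of_tmul_eq_basis w (Module.Basis.mk hli hsp.ge) fun i =>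
      (Module.Basis.mk_apply hli hsp.ge i).symm⟩
    refine (linearIndependent_equiv' (R := T) Equiv.ulift.{u} (f := w) rfl).mp ?_
    exact Module.IsLocalRing.linearIndependent_of_flat _ (hli.comp _ (Equiv.ulift.{u}).injective)

/-- A family of a vector space is a basis if it is one after extending the field. -/
theorem basis_descent {K K' V : Type u} [Field K] [Field K'] [Algebra K K'] [AddCommGroup V] [Module K V]
    {n : Type} (v : n → V) (hli : LinearIndependent K' (fun i => (1 : K') ⊗ₜ[K] v i))
    (hsp : Submodule.span K' (Set.range fun i => (1 : K') ⊗ₜ[K] v i) = ⊤) :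
    LinearIndependent K v ∧ Submodule.span K (Set.range v) = ⊤ := by
  constructor
  · have h : LinearIndependent K (fun i => (1 : K') ⊗ₜ[K] v i) :=
      hli.restrict_scalars (by simpa [Algebra.smul_def] using (algebraMap K K').injective)
    exact LinearIndependent.of_comp (TensorProduct.mk K K' V 1) h
  · rw [← Submodule.range_subtype (Submodule.span K (Set.range v)), LinearMap.range_eq_top,
      ← Module.FaithfullyFlat.lTensor_surjective_iff_surjective K K']
    intro x
    have hx : x ∈ LinearMap.range ((Submodule.span K (Set.range v)).subtype.baseChange K') := by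
      have : x ∈ Submodule.span K' (Set.range fun i => (1 : K') ⊗ₜ[K] v i) := hsp ▸ trivial
      refine Submodule.span_le.2 ?_ this
      rintro _ ⟨i, rfl⟩
      exact ⟨1 ⊗ₜ ⟨v i, Submodule.subset_span ⟨i, rfl⟩⟩, by simp⟩
    obtain ⟨y, rfl⟩ := hx
    exact ⟨y, rfl⟩

/-- Coordinates descend from a formally étale algebra over a base change. -/
theorem isCoordAt_descent {A A' B B' : Type u} [CommRing A] [CommRing A'] [CommRing B] [CommRing B']
    [Algebra A A'] [Algebra A B] [Algebra A' B'] [Algebra B B'] [Algebra A B'] [IsScalarTower A A' B']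
    [IsScalarTower A B B']
    [Algebra (A' ⊗[A] B) B'] [IsScalarTower A' (A' ⊗[A] B) B']
    (hmap : ∀ b, algebraMap (A' ⊗[A] B) B' (1 ⊗ₜ b) = algebraMap B B' b)
    [Algebra.FormallyEtale (A' ⊗[A] B) B'] (q' : Ideal B') [q'.IsPrime] (q : Ideal B) [q.IsPrime]
    [q'.LiesOver q] {n : Type} (c : n → B)
    (h : IsCoordAt A' q' (fun i => algebraMap B B' (c i))) : IsCoordAt A q c := by
  letI : Algebra B (A' ⊗[A] B) := Algebra.TensorProduct.rightAlgebra
  haveI : IsScalarTower B (A' ⊗[A] B) B' := IsScalarTower.of_algebraMap_eq fun b => (hmap b).symm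
  haveI : Algebra.IsPushout A A' B (A' ⊗[A] B) := inferInstance
  let e : B' ⊗[B] Ω[B⁄A] ≃ₗ[B'] Ω[B'⁄A'] :=
    (AlgebraTensorModule.cancelBaseChange B (A' ⊗[A] B) B' B' Ω[B⁄A]).symm ≪≫ₗ
      AlgebraTensorModule.congr (LinearEquiv.refl B' B') (tensorKaehlerEquiv A A' B (A' ⊗[A] B)) ≪≫ₗ
      tensorKaehlerEquivOfFormallyEtale A' (A' ⊗[A] B) B'
  have he : ∀ b, e (1 ⊗ₜ D A B b) = D A' B' (algebraMap B B' b) := fun b => by
    simp [e, ← hmap b]
    rfl
  let K := q.ResidueField
  let K' := q'.ResidueField
  letI : Algebra K K' := (Ideal.ResidueField.map q q' (algebraMap B B') (Ideal.over_def q' q)).toAlgebra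
  haveI : IsScalarTower B K K' := IsScalarTower.of_algebraMap_eq' <| by
    ext b
    show _ = Ideal.ResidueField.map q q' (algebraMap B B') _ (algebraMap B q.ResidueField b)
    simp
    exact IsScalarTower.algebraMap_apply B B' q'.ResidueField b
  let f : K' ⊗[K] (K ⊗[B] Ω[B⁄A]) ≃ₗ[K'] K' ⊗[B'] Ω[B'⁄A'] :=
    AlgebraTensorModule.cancelBaseChange B K K' K' Ω[B⁄A] ≪≫ₗ
      (AlgebraTensorModule.cancelBaseChange B B' K' K' Ω[B⁄A]).symm ≪≫ₗ
      AlgebraTensorModule.congr (LinearEquiv.refl K' K') e
  have hf : (fun i => (1 : K') ⊗ₜ[B'] D A' B' (algebraMap B B' (c i))) =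
      f ∘ fun i => (1 : K') ⊗ₜ[K] ((1 : K) ⊗ₜ[B] D A B (c i)) := funext fun i => by
    simp [f, he]
  obtain ⟨hli, hsp⟩ := h
  rw [hf] at hli hsp
  refine basis_descent _ ((LinearMap.linearIndependent_iff f.toLinearMap f.ker).1 hli) ?_
  rw [Set.range_comp, ← LinearEquiv.coe_coe, Submodule.span_image, Submodule.map_eq_top_iff] at hsp
  exact hsp

/-- Spanning differentials contain coordinates. -/
theorem exists_isCoordAt [Algebra.EssFiniteType A B] {C : Type u} (ι : C → B)
    (hι : Submodule.span B (Set.range fun x => D A B (ι x)) = ⊤) (q : Ideal B) [q.IsPrime] :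
    ∃ (m : ℕ) (c : Fin m → C), IsCoordAt A q (fun i => ι (c i)) := by
  classical
  let K := q.ResidueField
  let t : Set (K ⊗[B] Ω[B⁄A]) := Set.range fun x : C => (1 : K) ⊗ₜ[B] D A B (ι x)
  have ht : Submodule.span K t = ⊤ := by
    rw [show t = TensorProduct.mk B K Ω[B⁄A] 1 '' Set.range (fun x => D A B (ι x)) by
      rw [← Set.range_comp]; rfl, ← Submodule.baseChange_span, hι, Submodule.baseChange_top]
  obtain ⟨b, hbt, -, htb, hb⟩ := exists_linearIndepOn_id_extension (linearIndepOn_empty K id) (Set.empty_subset t)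
  have hbspan : Submodule.span K b = ⊤ :=
    eq_top_iff.2 (ht ▸ Submodule.span_le.2 htb)
  haveI := (LinearIndependent.setFinite (R := K) hb).fintype
  let ε : Fin (Fintype.card b) ≃ b := (Fintype.equivFin b).symm
  choose c hc using fun i => hbt (ε i).2
  have hu : (fun i => (1 : K) ⊗ₜ[B] D A B (ι (c i))) = Subtype.val ∘ ε := funext hc
  refine ⟨_, c, ?_, ?_⟩
  · rw [hu]; exact (hb : LinearIndependent K (Subtype.val : b → _)).comp _ ε.injective
  · rw [hu, Set.range_comp, ε.surjective.range_eq, Set.image_univ, Subtype.range_coe, hbspan]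

/-- Differentials of `C` span when `B` is unramified over `A ⊗ C`. -/
theorem span_of_unramified {R C : Type u} [CommRing R] [CommRing C] [Algebra R A] [Algebra R C]
    [Algebra (A ⊗[R] C) B] [IsScalarTower A (A ⊗[R] C) B] [Algebra.FormallyUnramified (A ⊗[R] C) B] :
    Submodule.span B (Set.range fun x : C => D A B (algebraMap (A ⊗[R] C) B (1 ⊗ₜ x))) = ⊤ := by
  rw [eq_top_iff]
  intro z _
  obtain ⟨y, rfl⟩ := (exact_mapBaseChange_map A (A ⊗[R] C) B z).1 (Subsingleton.elim _ _)
  clear ‹_ ∈ (⊤ : Submodule B _)›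
  induction y using TensorProduct.induction_on with
  | zero => simp
  | add x y hx hy => rw [map_add]; exact Submodule.add_mem _ hx hy
  | tmul b w =>
    rw [mapBaseChange_tmul]
    refine Submodule.smul_mem _ _ ?_
    have hw : w ∈ Submodule.span (A ⊗[R] C) (Set.range (D A (A ⊗[R] C))) := by
      rw [span_range_derivation]; trivial
    induction hw using Submodule.span_induction with
    | zero => simp
    | add x y _ _ hx hy => rw [map_add]; exact Submodule.add_mem _ hx hy
    | smul r x _ hx =>
      rw [map_smul, ← algebraMap_smul B r]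
      exact Submodule.smul_mem _ _ hx
    | mem x hx =>
      obtain ⟨t, rfl⟩ := hx
      rw [map_D]
      induction t using TensorProduct.induction_on with
      | zero => simp
      | add x y hx hy => rw [map_add, map_add]; exact Submodule.add_mem _ hx hy
      | tmul a x =>
        rw [show (a ⊗ₜ[R] x : A ⊗[R] C) = a • ((1 : A) ⊗ₜ[R] x) by simp [TensorProduct.smul_tmul'],
          ← IsScalarTower.toAlgHom_apply A (A ⊗[R] C) B, map_smul, IsScalarTower.toAlgHom_apply,
          Derivation.map_smul, ← algebraMap_smul B a]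
        exact Submodule.smul_mem _ _ (Submodule.subset_span ⟨x, rfl⟩)

/-- A nonzero polynomial over a field is nonzero at some tuple of roots of unity of invertible order. -/
theorem exists_roots_eval_ne_zero {K L : Type u} [Field K] [Field L] [IsAlgClosed L] [Algebra K L] {n : ℕ}
    (G : MvPolynomial (Fin n) K) (hG : G ≠ 0) :
    ∃ (N : ℕ) (x : Fin n → L), (N : L) ≠ 0 ∧ N ≠ 0 ∧ (∀ i, x i ^ N = 1) ∧ MvPolynomial.aeval x G ≠ 0 := by
  classical
  let s : Set L := {x | ∃ N : ℕ, (N : L) ≠ 0 ∧ x ^ N = 1}
  have hs : s.Infinite := fun hfin => by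
    obtain ⟨p, hp, hl⟩ := Nat.exists_infinite_primes (max (ringChar L) hfin.toFinset.card + 1) |>.imp
      fun p hp => (show p.Prime ∧ _ from ⟨hp.2, hp.1⟩)
    have hp0 : (p : L) ≠ 0 := fun h => by
      have := (Nat.dvd_prime hp).1 (ringChar.dvd h)
      rcases this with h1 | h1
      · exact CharP.ringChar_ne_one h1
      · omega
    haveI : NeZero p := ⟨hp.ne_zero⟩
    haveI : NeZero (p : L) := ⟨hp0⟩
    obtain ⟨ζ, hζ⟩ := HasEnoughRootsOfUnity.exists_primitiveRoot L p
    have hsub : (Finset.range p).image (fun i => ζ ^ i) ⊆ hfin.toFinset := fun x hx => by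
      obtain ⟨i, -, rfl⟩ := Finset.mem_image.1 hx
      exact hfin.mem_toFinset.2 ⟨p, hp0, by rw [← pow_mul, mul_comm, pow_mul, hζ.pow_eq_one, one_pow]⟩
    have := Finset.card_le_card hsub
    rw [Finset.card_image_of_injOn (fun i hi j hj h => hζ.pow_inj (Finset.mem_range.1 hi) (Finset.mem_range.1 hj) h),
      Finset.card_range] at this
    omega
  by_contra hne
  push Not at hne
  refine hG (MvPolynomial.map_injective (algebraMap K L) (algebraMap K L).injective ?_)
  rw [map_zero]
  refine MvPolynomial.funext_set (fun _ => s) (fun _ => hs) fun x hx => ?_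
  choose N hN1 hN2 using fun i => hx i trivial
  rw [map_zero, MvPolynomial.eval_map, ← MvPolynomial.aeval_def]
  refine hne (∏ i, N i) x ?_ ?_ fun i => ?_
  · rw [Nat.cast_prod]; exact Finset.prod_ne_zero_iff.2 fun i _ => hN1 i
  · exact Finset.prod_ne_zero_iff.2 fun i _ h => hN1 i (by rw [h, Nat.cast_zero])
  · rw [← Finset.mul_prod_erase _ _ (Finset.mem_univ i), pow_mul, hN2, one_pow]

end Groth.Agent.Stk19b.Boot
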