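import Groth.Agent.Stk19b.Boot.Locus

/-! Étale coordinates under base change; points at roots of unity. -/

set_option autoImplicit false
set_option linter.style.haveILetI false
set_option backward.isDefEq.respectTransparency false
set_option backward.isDefEq.respectTransparency.types false

universe u

open CategoryTheory CategoryTheory.Limits AlgebraicGeometry TensorProduct

namespace Groth.Agent.Stk19b.Boot

variable {X X' U U' : Scheme.{u}} {m : ℕ}

/-- The base change of coordinates. -/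
theorem isPullback_coordHom {P : Scheme.{u}} {fst : P ⟶ X} {snd : P ⟶ U'} {p : X ⟶ U} {g : U' ⟶ U}
    (sq : IsPullback fst snd p g) (c : Fin m → Γ(X, ⊤)) :
    IsPullback fst (coordHom snd fun k => fst.appTop (c k)) (coordHom p c) (AffineSpace.map _ g) := by
  refine IsPullback.of_bot ?_ ?_ (AffineSpace.isPullback_map (n := ULift.{u} (Fin m)) g)
  · simpa [coordHom] using sq
  · rw [comp_coordHom, coordHom_map, sq.w]

/-- Étale coordinates pull back along a base change followed by an étale map. -/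
theorem mem_etLocus_of_image {P : Scheme.{u}} {fst : P ⟶ X} {snd : P ⟶ U'} {p : X ⟶ U} {g : U' ⟶ U}
    (sq : IsPullback fst snd p g) (e : X' ⟶ P) [Etale e] (c : Fin m → Γ(X, ⊤)) (x : X')
    (h : fst (e x) ∈ etLocus (coordHom p c)) :
    x ∈ etLocus (coordHom (e ≫ snd) fun k => (e ≫ fst).appTop (c k)) := by
  let O := etLocus (coordHom p c)
  have sqO := (isPullback_morphismRestrict fst O).flip.paste_horiz (isPullback_coordHom sq c).flip
  have : Etale (O.ι ≫ coordHom p c) := etale_etLocus_ι _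
  have : Etale ((fst ⁻¹ᵁ O).ι ≫ coordHom snd fun k => fst.appTop (c k)) :=
    MorphismProperty.of_isPullback (P := @Etale) sqO.flip this
  refine mem_etLocus.2 ⟨e ⁻¹ᵁ fst ⁻¹ᵁ O, ?_, h⟩
  rw [show coordHom (e ≫ snd) (fun k => (e ≫ fst).appTop (c k)) = e ≫ coordHom snd fun k => fst.appTop (c k) by
    rw [comp_coordHom]; rfl, ← Category.assoc, ← morphismRestrict_ι, Category.assoc]
  infer_instance

/-- Étale coordinates descend along a base change followed by an étale map. -/
theorem image_mem_etLocus {P : Scheme.{u}} {fst : P ⟶ X} {snd : P ⟶ U'} {p : X ⟶ U} {g : U' ⟶ U} [Smooth p]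
    (sq : IsPullback fst snd p g) (e : X' ⟶ P) [Etale e] (c : Fin m → Γ(X, ⊤)) (x : X')
    (h : x ∈ etLocus (coordHom (e ≫ snd) fun k => (e ≫ fst).appTop (c k))) :
    fst (e x) ∈ etLocus (coordHom p c) := by
  let π := e ≫ fst
  have : Smooth snd := MorphismProperty.of_isPullback (P := @Smooth) sq ‹Smooth p›
  obtain ⟨A, j, hj, a, ha, -⟩ := exists_affine_chart (O := (⊤ : U.Opens)) (x := p (π x)) trivial
  obtain ⟨B, i, hi, y, hy, hB⟩ := exists_affine_chart (O := p ⁻¹ᵁ j.opensRange) (x := π x) ⟨a, ha⟩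
  obtain ⟨A', j', hj', a', ha', hA'⟩ := exists_affine_chart (O := g ⁻¹ᵁ j.opensRange) (x := (e ≫ snd) x)
    ⟨a, ha.trans (congrArg (fun f : P ⟶ U => f (e x)) sq.w)⟩
  obtain ⟨B', i', hi', y', hy', hB'⟩ := exists_affine_chart
    (O := π ⁻¹ᵁ i.opensRange ⊓ (e ≫ snd) ⁻¹ᵁ j'.opensRange) (x := x) ⟨⟨y, hy⟩, ⟨a', ha'⟩⟩
  obtain ⟨φ, hφ⟩ := Spec.map_surjective (IsOpenImmersion.lift j (i ≫ p) (by
    rintro _ ⟨z, rfl⟩; exact hB ⟨z, rfl⟩))
  obtain ⟨α, hα⟩ := Spec.map_surjective (IsOpenImmersion.lift j (j' ≫ g) (by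
    rintro _ ⟨z, rfl⟩; exact hA' ⟨z, rfl⟩))
  obtain ⟨ψ, hψ⟩ := Spec.map_surjective (IsOpenImmersion.lift i (i' ≫ π) (by
    rintro _ ⟨z, rfl⟩; exact (hB' ⟨z, rfl⟩).1))
  obtain ⟨φ', hφ'⟩ := Spec.map_surjective (IsOpenImmersion.lift j' (i' ≫ e ≫ snd) (by
    rintro _ ⟨z, rfl⟩; exact (hB' ⟨z, rfl⟩).2))
  have h1 : i ≫ p = Spec.map φ ≫ j := by rw [hφ, IsOpenImmersion.lift_fac]
  have h2 : j' ≫ g = Spec.map α ≫ j := by rw [hα, IsOpenImmersion.lift_fac]
  have h3 : i' ≫ π = Spec.map ψ ≫ i := by rw [hψ, IsOpenImmersion.lift_fac]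
  have h4 : i' ≫ e ≫ snd = Spec.map φ' ≫ j' := by rw [hφ', IsOpenImmersion.lift_fac]
  have hc : φ ≫ ψ = α ≫ φ' := by
    apply Spec.map_injective
    rw [← cancel_mono j, Spec.map_comp, Spec.map_comp, Category.assoc, Category.assoc, ← h1, ← h2,
      ← reassoc_of% h3, ← reassoc_of% h4, Category.assoc, sq.w]
  letI := φ.hom.toAlgebra
  letI := α.hom.toAlgebra
  letI := φ'.hom.toAlgebra
  letI := ψ.hom.toAlgebra
  letI : Algebra A B' := (φ'.hom.comp α.hom).toAlgebra
  haveI : IsScalarTower A A' B' := IsScalarTower.of_algebraMap_eq fun _ => rfl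
  haveI : IsScalarTower A B B' := IsScalarTower.of_algebraMap_eq fun r => (congrArg (fun f => f.hom r) hc).symm
  let χ : A' ⊗[A] B →+* B' := (Algebra.TensorProduct.lift (IsScalarTower.toAlgHom A A' B')
    (IsScalarTower.toAlgHom A B B') fun _ _ => Commute.all _ _).toRingHom
  letI : Algebra (A' ⊗[A] B) B' := χ.toAlgebra
  haveI : IsScalarTower A' (A' ⊗[A] B) B' := IsScalarTower.of_algebraMap_eq fun r => by
    show _ = χ (r ⊗ₜ 1)
    simp [χ]
  let b₁ := Spec.map (CommRingCat.ofHom (algebraMap A A'))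
  let b₂ := Spec.map (CommRingCat.ofHom (algebraMap A B))
  have eb₁ : b₁ = Spec.map α := rfl
  have eb₂ : b₂ = Spec.map φ := rfl
  let l : pullback b₁ b₂ ⟶ P := sq.lift (pullback.snd b₁ b₂ ≫ i) (pullback.fst b₁ b₂ ≫ j') (by
    rw [Category.assoc, Category.assoc, h1, h2, ← eb₁, ← eb₂, pullback.condition_assoc])
  have : IsOpenImmersion l := by
    have e₁ : l = pullback.map b₁ b₂ g p j' i j h2.symm h1.symm ≫ sq.flip.isoPullback.inv := by
      apply sq.hom_ext <;> simp [l]
    rw [e₁]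
    have : IsOpenImmersion (pullback.map b₁ b₂ g p j' i j h2.symm h1.symm) := inferInstance
    infer_instance
  have key : Spec.map (CommRingCat.ofHom χ) ≫ (pullbackSpecIso A A' B).inv ≫ l = i' ≫ e := by
    apply sq.hom_ext
    · simp only [Category.assoc, l, sq.lift_fst]
      rw [← Category.assoc (pullbackSpecIso A A' B).inv,
        show (pullbackSpecIso A A' B).inv ≫ pullback.snd b₁ b₂ = _ from pullbackSpecIso_inv_snd A A' B]
      rw [← Category.assoc, ← Spec.map_comp, ← CommRingCat.ofHom_comp,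
        show i' ≫ e ≫ fst = Spec.map ψ ≫ i from h3]
      congr 2
      ext r
      show χ (1 ⊗ₜ r) = ψ r
      simp [χ]
      rfl
    · simp only [Category.assoc, l, sq.lift_snd, h4]
      rw [← Category.assoc (pullbackSpecIso A A' B).inv,
        show (pullbackSpecIso A A' B).inv ≫ pullback.fst b₁ b₂ = _ from pullbackSpecIso_inv_fst' A A' B]
      rw [← Category.assoc, ← Spec.map_comp, ← CommRingCat.ofHom_comp]
      congr 2
      ext r
      exact (IsScalarTower.algebraMap_apply A' (A' ⊗[A] B) B' r).symm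
  have hE : Etale (Spec.map (CommRingCat.ofHom χ)) := by
    have : Etale ((Spec.map (CommRingCat.ofHom χ) ≫ (pullbackSpecIso A A' B).inv) ≫ l) := by
      rw [Category.assoc, key]; infer_instance
    have := Etale.of_comp (Spec.map (CommRingCat.ofHom χ) ≫ (pullbackSpecIso A A' B).inv) l
    exact (MorphismProperty.cancel_right_of_respectsIso @Etale _ (pullbackSpecIso A A' B).inv).1 this
  haveI : Algebra.Etale (A' ⊗[A] B) B' := RingHom.etale_algebraMap.1 ((HasRingHomProperty.Spec_iff (P := @Etale)).1 hE)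
  have : Smooth (e ≫ snd) := inferInstance
  have hx := (mem_etLocus_coordHom_iff (e ≫ snd) _ i' j' φ' h4 y').1 (hy'.symm ▸ h)
  have hyy : y'.asIdeal.LiesOver y.asIdeal := by
    refine ⟨?_⟩
    have : Spec.map ψ y' = y := i.isOpenEmbedding.injective (by
      rw [← Scheme.Hom.comp_apply, ← h3, Scheme.Hom.comp_apply, hy', hy])
    rw [← this]
    rfl
  show π x ∈ _
  rw [← hy]
  refine (mem_etLocus_coordHom_iff p c i j φ h1 y).2 (isCoordAt_descent (fun b => by
    show χ (1 ⊗ₜ b) = _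
    simp [χ]) y'.asIdeal y.asIdeal _ ?_)
  convert! hx using 2
  rename_i k
  show ψ ((Scheme.ΓSpecIso B).hom (i.appTop (c k))) = _
  rw [← CommRingCat.comp_apply, ← Scheme.ΓSpecIso_naturality, CommRingCat.comp_apply, ← CommRingCat.comp_apply i.appTop,
    ← Scheme.Hom.comp_appTop, ← h3, Scheme.Hom.comp_appTop, CommRingCat.comp_apply]

/-- Over any point of the base, a nonempty open of affine space has a point at roots of unity of invertible order. -/
theorem exists_etale_point {S : Scheme.{u}} (s : U ⟶ S) (O : (𝔸(ULift.{u} (Fin m); U)).Opens)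
    (o : 𝔸(ULift.{u} (Fin m); U)) (ho : o ∈ O) :
    ∃ (S' : Scheme.{u}) (σ : S' ⟶ S) (_ : Etale σ) (c : Fin m → Γ(S', ⊤)) (z : ↥(pullback s σ)),
      pullback.fst s σ z = (𝔸(ULift.{u} (Fin m); U) ↘ U) o ∧
      coordHom (pullback.fst s σ) (fun k => (pullback.snd s σ).appTop (c k)) z ∈ O := by
  let n := ULift.{u} (Fin m)
  let v := (𝔸(n; U) ↘ U) o
  let K := U.residueField v
  let ρ : Spec K ⟶ U := U.fromSpecResidueField v
  let T : Spec (CommRingCat.of (MvPolynomial n K)) ⟶ 𝔸(n; U) := (AffineSpace.SpecIso n K).inv ≫ AffineSpace.map n ρ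
  obtain ⟨o', ho'⟩ : ∃ o', AffineSpace.map n ρ o' = o := by
    obtain ⟨z, hz, -⟩ := Scheme.Pullback.exists_preimage_pullback o (IsLocalRing.closedPoint K)
      (f := 𝔸(n; U) ↘ U) (g := ρ) (U.fromSpecResidueField_apply v _).symm
    exact ⟨(AffineSpace.isPullback_map (n := n) ρ).isoPullback.inv z, by
      rw [← Scheme.Hom.comp_apply, (AffineSpace.isPullback_map (n := n) ρ).isoPullback_inv_fst, hz]⟩
  have hmem : (AffineSpace.SpecIso n K).hom o' ∈ T ⁻¹ᵁ O := by
    show (AffineSpace.map n ρ) ((AffineSpace.SpecIso n K).inv ((AffineSpace.SpecIso n K).hom o')) ∈ O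
    rw [← Scheme.Hom.comp_apply (AffineSpace.SpecIso n K).hom, Iso.hom_inv_id]
    exact ho'.symm ▸ ho
  obtain ⟨_, ⟨_, ⟨G, rfl⟩, rfl⟩, hG, hGO⟩ :=
    PrimeSpectrum.isBasis_basic_opens.exists_subset_of_mem_open hmem (T ⁻¹ᵁ O).2
  let L := AlgebraicClosure K
  let σ := MvPolynomial.renameEquiv (K : Type u) (Equiv.ulift.{u} : n ≃ Fin m)
  obtain ⟨N, x, hN, hN0, hx, hxG⟩ := exists_roots_eval_ne_zero (L := L) (σ G) (fun h => hG (by
    rw [(map_eq_zero_iff σ σ.injective).1 h]; exact Ideal.zero_mem _))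
  haveI : NeZero N := ⟨hN0⟩
  haveI : NeZero (N : L) := ⟨hN⟩
  obtain ⟨ζ, hζ⟩ := HasEnoughRootsOfUnity.exists_primitiveRoot L N
  choose e he using fun i => (hζ.eq_pow_of_pow_eq_one (hx i)).imp fun _ h => h.2
  let R := ULift.{u} ℤ
  letI : Algebra R L := ((algebraMap ℤ L).comp ULift.ringEquiv.toRingHom).toAlgebra
  let f : Polynomial R := Polynomial.X ^ N - Polynomial.C 1
  let P : StandardEtalePair R :=
    { f := f
      monic_f := Polynomial.monic_X_pow_sub_C 1 hN0
      g := Polynomial.C (N : R) * Polynomial.X ^ (N - 1)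
      cond := ⟨1, 0, 1, by simp [f, Polynomial.derivative_X_pow, Polynomial.C_eq_natCast]⟩ }
  have hζP : P.HasMap (algebraMap L L ζ) := by
    refine ⟨by simp [P, f, hζ.pow_eq_one], IsUnit.mk0 _ ?_⟩
    simp [P, hζ.ne_zero hN0]
    rw [map_natCast]; exact hN
  let E := CommRingCat.of P.Ring
  let b : Spec E ⟶ Spec (CommRingCat.of R) := Spec.map (CommRingCat.ofHom (algebraMap R P.Ring))
  let τ : S ⟶ Spec (CommRingCat.of R) := specULiftZIsTerminal.from S
  have hb : Etale b := (HasRingHomProperty.Spec_iff (P := @Etale)).2 (RingHom.etale_algebraMap.2 inferInstance)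
  let μ : Spec (CommRingCat.of L) ⟶ Spec E := Spec.map (CommRingCat.ofHom (P.lift _ hζP).toRingHom)
  let ρL : Spec (CommRingCat.of L) ⟶ Spec K := Spec.map (CommRingCat.ofHom (algebraMap K L))
  let sL : Spec (CommRingCat.of L) ⟶ pullback τ b := pullback.lift (ρL ≫ ρ ≫ s) μ (specULiftZIsTerminal.hom_ext _ _)
  let zL : Spec (CommRingCat.of L) ⟶ pullback s (pullback.fst τ b) :=
    pullback.lift (ρL ≫ ρ) sL (by simp [sL])
  let c : Fin m → Γ(pullback τ b, ⊤) := fun i => (pullback.snd τ b).appTop ((Scheme.ΓSpecIso E).inv (P.X ^ e i))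
  refine ⟨pullback τ b, pullback.fst τ b, inferInstance, c, zL (IsLocalRing.closedPoint L), ?_, ?_⟩
  · rw [← Scheme.Hom.comp_apply, pullback.lift_fst, Scheme.Hom.comp_apply]
    exact U.fromSpecResidueField_apply v _
  have hT : zL ≫ coordHom (pullback.fst _ _) (fun k => (pullback.snd s (pullback.fst τ b)).appTop (c k)) =
      Spec.map (CommRingCat.ofHom (MvPolynomial.eval₂Hom (algebraMap K L) fun i : n => x i.down)) ≫ T := by
    rw [comp_coordHom]
    have e1 : (fun k => zL.appTop ((pullback.snd s (pullback.fst τ b)).appTop (c k))) =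
        fun k => (Scheme.ΓSpecIso (CommRingCat.of L)).inv (x k) := by
      funext k
      have hμ : zL ≫ pullback.snd s (pullback.fst τ b) ≫ pullback.snd τ b = μ := by
        rw [pullback.lift_snd_assoc, pullback.lift_snd]
      simp only [c, ← CommRingCat.comp_apply, ← Scheme.Hom.comp_appTop, Category.assoc]
      rw [hμ, ← Scheme.ΓSpecIso_inv_naturality, CommRingCat.comp_apply]
      congr 1
      show (P.lift _ hζP) (P.X ^ e k) = x k
      rw [map_pow, StandardEtalePair.lift_X]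
      exact he k
    rw [e1, pullback.lift_fst]
    show _ = _ ≫ (AffineSpace.SpecIso n K).inv ≫ AffineSpace.map n ρ
    rw [← Category.assoc, ← coordHom_map]
    exact congrArg (· ≫ AffineSpace.map n ρ) (coordHom_Spec (CommRingCat.ofHom (algebraMap K L)) x)
  rw [← Scheme.Hom.comp_apply, hT, Scheme.Hom.comp_apply]
  refine hGO ?_
  show G ∉ Ideal.comap _ _
  rw [Ideal.mem_comap]
  intro h0
  refine hxG ?_
  have h1 : MvPolynomial.eval₂Hom (algebraMap (K : Type u) L) (fun i : n => x i.down) G = 0 := by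
    have := (IsLocalRing.mem_maximalIdeal _).1 h0
    by_contra hne
    exact this (IsUnit.mk0 _ hne)
  rw [MvPolynomial.renameEquiv_apply, MvPolynomial.aeval_rename, MvPolynomial.aeval_def]
  exact h1

end Groth.Agent.Stk19b.Boot
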